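import Groth.Agent.AdjRep.Basic

/-!
# The homomorphism of a matrix of functions, quotient descent
-/

set_option autoImplicit false

universe u

noncomputable section

open CategoryTheory CategoryTheory.Limits MonoidalCategory CartesianMonoidalCategory MonObj GrpObj AlgebraicGeometry
open scoped TensorProduct

namespace Groth.Agent.AdjRep

variable {k : Type u} [Field k]

/-- The affine group `GL_n`. -/
abbrev GLSpec (k : Type u) [Field k] (n : ℕ) : Over (Spec (CommRingCat.of k)) :=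
  (Spec (CommRingCat.of (CoordGrp.GLn n k))).asOver (Spec (CommRingCat.of k))

/-- Two points of `GL_n` with the same matrix are equal. -/
theorem gl_ext {n : ℕ} {T : Over (Spec (CommRingCat.of k))} {a b : T ⟶ GLSpec k n}
    (h : ∀ i j, AffHull.fn a.left (CoordGrp.GLn.X i j) = AffHull.fn b.left (CoordGrp.GLn.X i j)) : a = b := by
  ext : 1
  apply AffHull.fn_injective
  intro x
  letI : Algebra k Γ(T.left, ⊤) := (AffHull.fn T.hom).toAlgebra
  let F : (T ⟶ GLSpec k n) → (CoordGrp.GLn n k →ₐ[k] Γ(T.left, ⊤)) := fun v =>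
    { toRingHom := AffHull.fn v.left
      commutes' := fun c => by
        change AffHull.fn v.left (algebraMap k _ c) = AffHull.fn T.hom c
        rw [← Over.w v]
        exact (AffHull.fn_map v.left (CommRingCat.ofHom (algebraMap k (CoordGrp.GLn n k))) c).symm }
  have hX : ∀ i j, F a (CoordGrp.GLn.X i j) = F b (CoordGrp.GLn.X i j) := h
  have hD : F a CoordGrp.GLn.Dinv = F b CoordGrp.GLn.Dinv := by
    have hdet : F a CoordGrp.GLn.det = F b CoordGrp.GLn.det := by
      rw [CoordGrp.GLn.det_eq, AlgHom.map_det, AlgHom.map_det]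
      congr 1
      ext i j
      exact hX i j
    refine left_inv_eq_right_inv (a := F a CoordGrp.GLn.det) ?_ ?_
    · rw [← map_mul, CoordGrp.GLn.Dinv_mul_det, _root_.map_one]
    · rw [hdet, ← map_mul, CoordGrp.GLn.det_mul_Dinv, _root_.map_one]
  exact congr($(CoordGrp.GLn.algHom_ext hX hD) x)

/-- A matrix of functions multiplicative on points is a homomorphism to `GL_n`. -/
theorem exists_hom_of_matRep {G : Over (Spec (CommRingCat.of k))} [GrpObj G] {n : ℕ} (ρ : AffHull.MatRep G n) :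
    ∃ u : G ⟶ GLSpec k n, IsMonHom u ∧
      ∀ (T : Over (Spec (CommRingCat.of k))) (g : T ⟶ G), g ≫ u = 1 ↔ ρ.R g = 1 := by
  letI : Algebra k Γ(G.left, ⊤) := (AffHull.fn G.hom).toAlgebra
  have hdet : (ρ.R (𝟙 G)).det * (ρ.R (𝟙 G)⁻¹).det = 1 := by
    rw [← Matrix.det_mul, ← ρ.map_mul, mul_inv_cancel, ρ.map_one, Matrix.det_one]
  let φ : CoordGrp.GLn n k →ₐ[k] Γ(G.left, ⊤) := CoordGrp.GLn.pt n k (ρ.R (𝟙 G)) _ hdet
  let u : G ⟶ GLSpec k n := Over.homMk (G.left.toSpecΓ ≫ Spec.map (CommRingCat.ofHom φ.toRingHom)) (by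
    apply AffHull.fn_injective
    intro c
    change AffHull.fn ((G.left.toSpecΓ ≫ _) ≫ Spec.map (CommRingCat.ofHom (algebraMap k (CoordGrp.GLn n k)))) c = _
    rw [AffHull.fn_map, AffHull.fn_map]
    simp only [AffHull.fn, Scheme.toSpecΓ_appTop, Iso.inv_hom_id]
    exact φ.commutes c)
  have hu : ∀ (T : Over (Spec (CommRingCat.of k))) (g : T ⟶ G) (i j),
      AffHull.fn (g ≫ u).left (CoordGrp.GLn.X i j) = ρ.R g i j := by
    intro T g i j
    conv_rhs => rw [← Category.comp_id g, ρ.natural]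
    refine (AffHull.fn_comp g.left u.left _).trans ?_
    refine congrArg g.left.appTop ?_
    change AffHull.fn (G.left.toSpecΓ ≫ Spec.map (CommRingCat.ofHom φ.toRingHom)) _ = _
    rw [AffHull.fn_map]
    simp only [AffHull.fn, Scheme.toSpecΓ_appTop, Iso.inv_hom_id]
    exact CoordGrp.GLn.pt_X _ _ hdet i j
  have hone : ∀ (T : Over (Spec (CommRingCat.of k))) (i j),
      AffHull.fn ((1 : T ⟶ GLSpec k n)).left (CoordGrp.GLn.X i j) = (1 : Matrix (Fin n) (Fin n) Γ(T.left, ⊤)) i j := by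
    intro T i j
    rw [AffHull.fn_one, CoordGrp.GLn.counit_X, Matrix.one_apply]
    split_ifs <;> simp
  have hmul : ∀ (T : Over (Spec (CommRingCat.of k))) (g h : T ⟶ G), (g * h) ≫ u = (g ≫ u) * (h ≫ u) := by
    intro T g h
    refine gl_ext fun i j => ?_
    obtain ⟨Φ, hΦ, hm⟩ := AffHull.exists_fn_mul (A := CoordGrp.GLn n k) (g ≫ u) (h ≫ u)
    rw [hu, hm, CoordGrp.GLn.comul_X, map_sum, ρ.map_mul, Matrix.mul_apply]
    exact Finset.sum_congr rfl fun l _ => by rw [hΦ, hu, hu]
  refine ⟨u, ⟨?_, ?_⟩, fun T g => ⟨fun h => ?_, fun h => gl_ext fun i j => by rw [hu, h, hone]⟩⟩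
  · refine gl_ext fun i j => ?_
    have h1 : (η[G] : 𝟙_ _ ⟶ G) = 1 := by rw [Hom.one_def, toUnit_unit, Category.id_comp]
    have h2 : (η[GLSpec k n] : 𝟙_ _ ⟶ GLSpec k n) = 1 := by rw [Hom.one_def, toUnit_unit, Category.id_comp]
    rw [h1, h2, hu, ρ.map_one, hone]
  · have h := hmul (G ⊗ G) (fst G G) (snd G G)
    rw [Hom.mul_def, lift_fst_snd, Category.id_comp, Hom.mul_def] at h
    rw [h]
    congr 1
    try ext1 <;> simp
  · ext i j
    rw [← hu, h, hone]

/-- An increasing sequence of ideal sheaves on a noetherian scheme stabilises. -/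
theorem exists_stable {X : Scheme.{u}} [IsLocallyNoetherian X] [CompactSpace X] (I : ℕ → X.IdealSheafData)
    (hI : Monotone I) : ∃ N, ∀ n, N ≤ n → I n = I N := by
  classical
  obtain ⟨S, hS, e⟩ := isCompact_iff_finite_and_eq_biUnion_affineOpens.mp
    (show IsCompact ((⊤ : X.Opens) : Set X) from isCompact_univ)
  have hst : ∀ U : X.affineOpens, ∃ N, ∀ n, N ≤ n → (I N).ideal U = (I n).ideal U := by
    intro U
    haveI : IsNoetherianRing Γ(X, U.1) := IsLocallyNoetherian.component_noetherian U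
    exact monotone_stabilizes_iff_noetherian.2 inferInstance ⟨fun n => (I n).ideal U, fun a b h => hI h U⟩
  choose N hN using hst
  refine ⟨hS.toFinset.sup N, fun n hn => ?_⟩
  refine Scheme.IdealSheafData.ext_of_iSup_eq_top (fun U : S => U.1) ?_ fun U => ?_
  · rw [eq_top_iff, e]
    exact iSup₂_le fun U hU => le_iSup (fun U : S => U.1.1) ⟨U, hU⟩
  · have h : N U.1 ≤ hS.toFinset.sup N := Finset.le_sup (hS.mem_toFinset.2 U.2)
    exact ((hN U.1 n (h.trans hn)).symm.trans (hN U.1 _ h))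

/-- A homomorphism killing the kernel descends along a fppf quotient. -/
theorem exists_desc {N G Q P : Over (Spec (CommRingCat.of k))} [GrpObj G]
    [GrpObj Q] [GrpObj P] (i : N ⟶ G) (q : G ⟶ Q) [IsMonHom q] [EffectiveEpi q.left]
    (hex : AlgGrp.IsKernel i q) (f : G ⟶ P) [IsMonHom f] (hf : i ≫ f = 1) :
    ∃ d : Q ⟶ P, q ≫ d = f := by
  have key : ∀ {T : Scheme.{u}} (a b : T ⟶ G.left), a ≫ q.left = b ≫ q.left →
      a ≫ f.left = b ≫ f.left := by
    intro T a b h
    have hb : b ≫ G.hom = a ≫ G.hom := by rw [← Over.w q, reassoc_of% h]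
    let A : Over.mk (a ≫ G.hom) ⟶ G := Over.homMk a
    let B : Over.mk (a ≫ G.hom) ⟶ G := Over.homMk b hb
    have hAB : A ≫ q = B ≫ q := Over.OverMorphism.ext h
    have h1 : (A⁻¹ * B) ≫ q = toUnit _ ≫ η[Q] := by
      rw [MonObj.mul_comp, GrpObj.inv_comp, hAB, inv_mul_cancel]
      rfl
    obtain ⟨l, hl, -⟩ := hex.exists_lift (A⁻¹ * B) (toUnit _) h1
    have h2 : (A⁻¹ * B) ≫ f = 1 := by rw [← hl, Category.assoc, hf, MonObj.comp_one]
    rw [MonObj.mul_comp, GrpObj.inv_comp, inv_mul_eq_one] at h2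
    exact congr($(h2).left)
  let e := EffectiveEpi.desc q.left f.left key
  have he : q.left ≫ e = f.left := EffectiveEpi.fac _ _ _
  have hw : e ≫ P.hom = Q.hom := by
    rw [← cancel_epi q.left, reassoc_of% he, Over.w, Over.w]
  exact ⟨Over.homMk e hw, Over.OverMorphism.ext he⟩

/-- Two quotients by the same kernel are isomorphic. -/
theorem exists_iso_of_same_kernel {N G Q Q' : Over (Spec (CommRingCat.of k))} [GrpObj G] [GrpObj Q] [GrpObj Q']
    (i : N ⟶ G) (q : G ⟶ Q) [IsMonHom q] [EffectiveEpi q.left] (q' : G ⟶ Q') [IsMonHom q']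
    [EffectiveEpi q'.left] (h : AlgGrp.IsKernel i q) (h' : AlgGrp.IsKernel i q') : Nonempty (Q ≅ Q') := by
  have hk : i ≫ q' = 1 := by rw [h'.w]; rfl
  have hk' : i ≫ q = 1 := by rw [h.w]; rfl
  obtain ⟨d, hd⟩ := exists_desc i q h q' hk
  obtain ⟨d', hd'⟩ := exists_desc i q' h' q hk'
  have hepi : ∀ {Y : Over (Spec (CommRingCat.of k))} (p : G ⟶ Y) [EffectiveEpi p.left] (a b : Y ⟶ Y),
      p ≫ a = p ≫ b → a = b := fun p _ a b hab =>
    Over.OverMorphism.ext ((cancel_epi p.left).1 (congrArg CommaMorphism.left hab))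
  exact ⟨{ hom := d
           inv := d'
           hom_inv_id := hepi q _ _ (by rw [reassoc_of% hd, hd', Category.comp_id])
           inv_hom_id := hepi q' _ _ (by rw [reassoc_of% hd', hd, Category.comp_id]) }⟩

end Groth.Agent.AdjRep
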