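import Groth.Agent.AdjRep.Chart

/-!
# Infinitesimal neighbourhoods of a rational point on a locally noetherian scheme
-/

set_option autoImplicit false

universe u

noncomputable section

open CategoryTheory CategoryTheory.Limits MonoidalCategory CartesianMonoidalCategory MonObj GrpObj AlgebraicGeometry

namespace Groth.Agent.AdjRep

variable {k : Type u} [Field k]

/-- A noetherian algebra is finite over the field modulo a power of a rational maximal ideal. -/
theorem finite_quotient_pow {R : Type u} [CommRing R] [Algebra k R] [IsNoetherianRing R] (φ : R →ₐ[k] k)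
    (n : ℕ) : Module.Finite k (R ⧸ RingHom.ker φ ^ (n + 1)) := by
  classical
  let A := R ⧸ RingHom.ker φ ^ (n + 1)
  let m : Ideal A := (RingHom.ker φ).map (Ideal.Quotient.mk _)
  have hle : RingHom.ker φ ^ (n + 1) ≤ RingHom.ker φ := Ideal.pow_le_self n.succ_ne_zero
  let aug : A →ₐ[k] k := Ideal.Quotient.liftₐ _ φ fun a ha => RingHom.mem_ker.mp (hle ha)
  have hm : ∀ a : A, a - algebraMap k A (aug a) ∈ m := by
    intro a
    obtain ⟨a, rfl⟩ := Ideal.Quotient.mk_surjective a
    exact Ideal.mem_map_of_mem (Ideal.Quotient.mk (RingHom.ker φ ^ (n + 1)))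
      (show a - algebraMap k R (φ a) ∈ RingHom.ker φ by simp [RingHom.mem_ker])
  suffices h : ∀ j, j ≤ n + 1 → ((m ^ (n + 1 - j)).restrictScalars k).FG by
    have := h (n + 1) le_rfl
    rw [Nat.sub_self, pow_zero, Ideal.one_eq_top, Submodule.restrictScalars_top] at this
    exact ⟨this⟩
  intro j
  induction j with
  | zero =>
    intro _
    rw [Nat.sub_zero, show m ^ (n + 1) = ⊥ by rw [← Ideal.map_pow, Ideal.map_quotient_self],
      Submodule.restrictScalars_bot]
    exact Submodule.fg_bot
  | succ j ih =>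
    intro hj
    obtain ⟨i, hi⟩ : ∃ i, n + 1 - (j + 1) = i := ⟨_, rfl⟩
    rw [hi]
    have hi' : n + 1 - j = i + 1 := by omega
    obtain ⟨G, hG⟩ := IsNoetherian.noetherian (R := A) (M := A) (m ^ i)
    have : (m ^ i).restrictScalars k = Submodule.span k (G : Set A) ⊔ (m ^ (i + 1)).restrictScalars k := by
      refine le_antisymm (fun x hx => ?_) (sup_le ?_ ?_)
      · have hx' : x ∈ Submodule.span A (G : Set A) := hG.symm ▸ hx
        clear hx
        induction hx' using Submodule.span_induction with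
        | mem x hx => exact Submodule.mem_sup_left (Submodule.subset_span hx)
        | zero => exact zero_mem _
        | add x y _ _ hx hy => exact add_mem hx hy
        | smul r x hx' hx =>
          rw [show r • x = aug r • x + (r - algebraMap k A (aug r)) * x by
            rw [smul_eq_mul, Algebra.smul_def]; ring]
          refine add_mem (Submodule.smul_mem _ _ hx) (Submodule.mem_sup_right ?_)
          exact (Submodule.restrictScalars_mem k _ _).2 (pow_succ' m i ▸ Ideal.mul_mem_mul (hm r) (hG ▸ hx'))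
      · rw [Submodule.span_le]
        exact fun x hx => hG ▸ Submodule.subset_span hx
      · exact fun x hx => Ideal.pow_le_pow_right i.le_succ hx
    rw [this]
    exact Submodule.FG.sup (Submodule.fg_span G.finite_toSet) (hi' ▸ ih (by omega))

variable {Y : Over (Spec (CommRingCat.of k))} {V : Y.left.Opens} (hV : IsAffineOpen V)

/-- A closed subscheme containing all infinitesimal neighbourhoods contains an open neighbourhood. -/
theorem exists_open_of_nbhd_noeth [IsLocallyNoetherian Y.left]
    (y₀ : 𝟙_ (Over (Spec (CommRingCat.of k))) ⟶ Y)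
    (φ : (letI := AffHull.secAlg hV; Γ(Y.left, V) →ₐ[k] k))
    (hφ : letI := AffHull.secAlg hV; VecGrp.ptMap φ ≫ AffHull.secPt hV = toUnit (VecGrp.pt k k) ≫ y₀)
    {W : Over (Spec (CommRingCat.of k))} (j : W ⟶ Y) [IsClosedImmersion j.left]
    (hj : ∀ n, ∃ w, w ≫ j = nbhd hV φ n) :
    ∃ (U : Over (Spec (CommRingCat.of k))) (i : U ⟶ Y), IsOpenImmersion i.left ∧ IsAffine U.left ∧
      (∃ e, e ≫ i = y₀) ∧ ∃ w, w ≫ j = i := by
  letI := AffHull.secAlg hV
  haveI : IsNoetherianRing Γ(Y.left, V) := IsLocallyNoetherian.component_noetherian ⟨V, hV⟩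
  haveI : IsOpenImmersion hV.fromSpec := hV.isOpenImmersion_fromSpec
  let R := Γ(Y.left, V)
  let p : Ideal R := RingHom.ker φ
  haveI hp : p.IsMaximal :=
    RingHom.ker_isMaximal_of_surjective φ fun b => ⟨algebraMap k _ b, φ.commutes b⟩
  let ι₀ : Spec R ⟶ Y.left := hV.fromSpec
  obtain ⟨I, e, he⟩ := (IsClosedImmersion.Spec_iff (f := pullback.snd j.left ι₀)).mp inferInstance
  have hI : ∀ n : ℕ, I ≤ p ^ (n + 1) := by
    intro n
    obtain ⟨w, hw⟩ := hj n
    let q : R ⟶ CommRingCat.of (R ⧸ p ^ (n + 1)) := CommRingCat.ofHom (Ideal.Quotient.mk _)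
    have hw' : w.left ≫ j.left = Spec.map q ≫ ι₀ := congrArg CommaMorphism.left hw
    let l := pullback.lift (f := j.left) (g := ι₀) w.left (Spec.map q) hw'
    obtain ⟨χ, hχ⟩ := Spec.map_surjective (l ≫ e.hom : Spec (CommRingCat.of (R ⧸ p ^ (n + 1))) ⟶ Spec (CommRingCat.of (R ⧸ I)))
    have hqχ : CommRingCat.ofHom (Ideal.Quotient.mk I) ≫ χ = q := by
      refine Spec.map_injective ?_
      rw [Spec.map_comp, hχ, Category.assoc, ← he, pullback.lift_snd]
    intro a ha
    rw [← Ideal.Quotient.eq_zero_iff_mem]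
    have := congrArg (fun m => m.hom a) hqχ
    change χ.hom (Ideal.Quotient.mk I a) = Ideal.Quotient.mk _ a at this
    rw [← this, Ideal.Quotient.eq_zero_iff_mem.mpr ha, map_zero]
  obtain ⟨s, hs, hsI⟩ : ∃ s ∉ p, ∀ a ∈ I, s * a = 0 := by
    let Rp := Localization.AtPrime p
    have hz : ∀ a ∈ I, algebraMap R Rp a = 0 := by
      intro a ha
      rw [← Ideal.mem_bot, ← Ideal.iInf_pow_eq_bot_of_isLocalRing (IsLocalRing.maximalIdeal Rp) (IsLocalRing.maximalIdeal.isMaximal Rp).ne_top, Ideal.mem_iInf]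
      intro n
      rw [← Localization.AtPrime.map_eq_maximalIdeal, ← Ideal.map_pow]
      exact Ideal.mem_map_of_mem _ (Ideal.pow_le_pow_right n.le_succ (hI n ha))
    classical
    obtain ⟨G, hG⟩ := IsNoetherian.noetherian (R := R) (M := R) I
    have hex : ∀ a ∈ G, ∃ m : p.primeCompl, (m : R) * a = 0 := fun a ha =>
      (IsLocalization.map_eq_zero_iff p.primeCompl Rp a).1 (hz a (hG ▸ Submodule.subset_span ha))
    choose m hm using hex
    refine ⟨∏ a ∈ G.attach, (m a.1 a.2 : R), (prod_mem fun a _ => (m a.1 a.2).2 : _ ∈ p.primeCompl), fun a ha => ?_⟩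
    rw [← hG] at ha
    induction ha using Submodule.span_induction with
    | mem x hx =>
      rw [Finset.prod_eq_mul_prod_sdiff_singleton_of_mem (Finset.mem_attach G ⟨x, hx⟩), mul_comm (m x hx : R),
        _root_.mul_assoc, hm x hx, mul_zero]
    | zero => rw [mul_zero]
    | add x y _ _ hx hy => rw [mul_add, hx, hy, add_zero]
    | smul r x _ hx => rw [smul_eq_mul, mul_left_comm, hx, mul_zero]
  let r : R →ₐ[k] Localization.Away s := IsScalarTower.toAlgHom k R _
  haveI : IsOpenImmersion (Spec.map (CommRingCat.ofHom r.toRingHom)) := IsOpenImmersion.of_isLocalization s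
  let i : VecGrp.pt k (Localization.Away s) ⟶ Y := VecGrp.ptMap r ≫ AffHull.secPt hV
  have hu : IsUnit (φ s) := isUnit_iff_ne_zero.mpr fun h0 => hs (RingHom.mem_ker.mpr h0)
  let ψ : Localization.Away s →ₐ[k] k :=
    { toRingHom := IsLocalization.Away.lift (g := φ.toRingHom) s hu
      commutes' := fun c => (IsLocalization.Away.lift_eq (g := φ.toRingHom) s hu (algebraMap k R c)).trans (φ.commutes c) }
  have hψ : ψ.comp r = φ := AlgHom.ext fun a => IsLocalization.Away.lift_eq (g := φ.toRingHom) s hu a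
  refine ⟨_, i, inferInstanceAs (IsOpenImmersion (Spec.map (CommRingCat.ofHom r.toRingHom) ≫ hV.fromSpec)),
    inferInstanceAs (IsAffine (Spec _)), ?_, ?_⟩
  · let b : 𝟙_ (Over (Spec (CommRingCat.of k))) ⟶ VecGrp.pt k k :=
      Over.homMk (𝟙 _) (by change 𝟙 _ ≫ Spec.map (𝟙 _) = _; rw [Spec.map_id]; rfl)
    refine ⟨b ≫ VecGrp.ptMap ψ, ?_⟩
    have : VecGrp.ptMap ψ ≫ VecGrp.ptMap r = VecGrp.ptMap φ :=
      Over.OverMorphism.ext ((Spec.map_comp _ _).symm.trans (by rw [← hψ]; rfl))
    simp only [i, Category.assoc]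
    rw [reassoc_of% this, hφ, ← Category.assoc, toUnit_unique (b ≫ toUnit _) (𝟙 _), Category.id_comp]
  · have hkill : ∀ a ∈ I, r a = 0 := fun a ha =>
      (IsLocalization.map_eq_zero_iff (Submonoid.powers s) _ a).2 ⟨⟨s, Submonoid.mem_powers s⟩, hsI a ha⟩
    let χ : CommRingCat.of (R ⧸ I) ⟶ CommRingCat.of (Localization.Away s) :=
      CommRingCat.ofHom (Ideal.Quotient.lift I r.toRingHom hkill)
    have hχ : CommRingCat.ofHom (Ideal.Quotient.mk I) ≫ χ = CommRingCat.ofHom r.toRingHom := by ext; rfl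
    have key : (Spec.map χ ≫ e.inv ≫ pullback.fst j.left ι₀) ≫ j.left = i.left := by
      have he' : e.inv ≫ pullback.snd j.left ι₀ = Spec.map (CommRingCat.ofHom (Ideal.Quotient.mk I)) := by
        rw [he, Iso.inv_hom_id_assoc]
      simp only [Category.assoc, pullback.condition]
      rw [reassoc_of% he', ← Category.assoc, ← Spec.map_comp, hχ]
      rfl
    refine ⟨Over.homMk (Spec.map χ ≫ e.inv ≫ pullback.fst j.left ι₀) ?_, Over.OverMorphism.ext key⟩
    rw [← Over.w j, ← Category.assoc, key]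
    exact Over.w i

end Groth.Agent.AdjRep
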