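import Groth.Agent.AdjRep.Center
import Groth.Agent.AdjRep.ChartNoeth

/-!
# The linear representations attached to a fixed point of an action

A group acting with a fixed rational point acts linearly on the infinitesimal neighbourhoods of that point;
on an integral separated space the common kernel of these representations is the kernel of the action.
-/

set_option autoImplicit false

universe u

noncomputable section

open CategoryTheory CategoryTheory.Limits MonoidalCategory CartesianMonoidalCategory MonObj GrpObj AlgebraicGeometry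
open scoped TensorProduct

namespace Groth.Agent.AdjRep

variable {k : Type u} [Field k] {G X : Over (Spec (CommRingCat.of k))} [GrpObj G]

omit [GrpObj G] in
theorem comp_lift' {T T' : Over (Spec (CommRingCat.of k))} (s : T' ⟶ T) (g : T ⟶ G) (x : T ⟶ X) :
    s ≫ lift g x = lift (s ≫ g) (s ≫ x) := comp_lift s g x

/-- The action of a point on a point. -/
abbrev smulPt (a : AlgGrp.Action G X) {T : Over (Spec (CommRingCat.of k))} (g : T ⟶ G) (x : T ⟶ X) : T ⟶ X :=
  lift g x ≫ a.act

theorem comp_smulPt (a : AlgGrp.Action G X) {T T' : Over (Spec (CommRingCat.of k))} (s : T' ⟶ T)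
    (g : T ⟶ G) (x : T ⟶ X) : s ≫ smulPt a g x = smulPt a (s ≫ g) (s ≫ x) := by
  rw [smulPt, comp_lift_assoc]

theorem one_smulPt (a : AlgGrp.Action G X) {T : Over (Spec (CommRingCat.of k))} (x : T ⟶ X) :
    smulPt a 1 x = x := by
  have h := congrArg (lift (toUnit T) x ≫ ·) a.one_act
  simp only [lift_whiskerRight_assoc] at h
  rw [Hom.one_def]
  rw [smulPt, h, leftUnitor_hom, lift_snd]

theorem mul_smulPt (a : AlgGrp.Action G X) {T : Over (Spec (CommRingCat.of k))} (g h : T ⟶ G) (x : T ⟶ X) :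
    smulPt a (g * h) x = smulPt a g (smulPt a h x) := by
  have e := congrArg (lift (lift g h) x ≫ ·) a.mul_act
  simp only [lift_whiskerRight_assoc, lift_lift_associator_hom_assoc, lift_whiskerLeft_assoc] at e
  rw [smulPt, Hom.mul_def]
  exact e

section Fixed

variable {V : X.left.Opens} (hV : IsAffineOpen V) (a : AlgGrp.Action G X)
  (x₀ : 𝟙_ (Over (Spec (CommRingCat.of k))) ⟶ X)
  (hy : x₀.left.base (IsLocalRing.closedPoint k) ∈ V)

include hy in
/-- Translation of the infinitesimal neighbourhood of a fixed point. -/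
theorem exists_trans (hx : a.IsFixedPt x₀) (φ : (letI := AffHull.secAlg hV; Γ(X.left, V) →ₐ[k] k))
    (hφ : letI := AffHull.secAlg hV;
      VecGrp.ptMap φ ≫ AffHull.secPt hV = toUnit (VecGrp.pt k k) ≫ x₀) (n : ℕ)
    (B : Type u) [CommRing B] [Algebra k B] :
    letI := AffHull.secAlg hV; ∀ g : VecGrp.pt k B ⟶ G,
      ∃ θ : (Γ(X.left, V) ⧸ RingHom.ker φ ^ (n + 1)) →ₐ[k] B ⊗[k] (Γ(X.left, V) ⧸ RingHom.ker φ ^ (n + 1)),
        VecGrp.ptMap θ ≫ nbhd hV φ n =
          smulPt a (VecGrp.ptMap Algebra.TensorProduct.includeLeft ≫ g)⁻¹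
            (VecGrp.ptMap Algebra.TensorProduct.includeRight ≫ nbhd hV φ n) := by
  letI := AffHull.secAlg hV
  intro g
  let p : Ideal Γ(X.left, V) := RingHom.ker φ
  let A := Γ(X.left, V) ⧸ p ^ (n + 1)
  have hle : p ^ (n + 1) ≤ p := Ideal.pow_le_self n.succ_ne_zero
  let aug : A →ₐ[k] k := Ideal.Quotient.liftₐ _ φ fun a ha => RingHom.mem_ker.mp (hle ha)
  have haug : ∀ a, aug (Ideal.Quotient.mk _ a) = φ a := fun a => rfl
  let L : B →ₐ[k] B ⊗[k] A := Algebra.TensorProduct.includeLeft
  let Rr : A →ₐ[k] B ⊗[k] A := Algebra.TensorProduct.includeRight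
  let π : B ⊗[k] A →ₐ[k] B := Algebra.TensorProduct.lift (AlgHom.id k B) ((Algebra.ofId k B).comp aug)
    fun _ _ => Commute.all _ _
  have hπL : π.comp L = AlgHom.id k B := AlgHom.ext fun b => by simp [π, L]
  have hπR : π.comp Rr = (Algebra.ofId k B).comp aug := AlgHom.ext fun a => by simp [π, Rr]
  let J : Ideal (B ⊗[k] A) := (RingHom.ker aug).map Rr
  have hker : ∀ z, z - L (π z) ∈ J := by
    intro z
    induction z using TensorProduct.induction_on with
    | zero => simp
    | tmul b a =>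
      have h : b ⊗ₜ[k] a - L (π (b ⊗ₜ a)) = L b * Rr (a - algebraMap k A (aug a)) := by
        rw [map_sub, mul_sub, AlgHom.commutes, ← L.commutes, ← map_mul]
        simp [π, L, Rr, mul_comm b]
      rw [h]
      exact Ideal.mul_mem_left _ _ (Ideal.mem_map_of_mem _ (by simp [RingHom.mem_ker]))
    | add x y hx hy => simpa [map_add, add_sub_add_comm] using J.add_mem hx hy
  have hJ : J ^ (n + 1) = ⊥ := by
    have h : RingHom.ker aug ≤ p.map (Ideal.Quotient.mk _) := by
      intro a ha
      obtain ⟨a, rfl⟩ := Ideal.Quotient.mk_surjective a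
      exact Ideal.mem_map_of_mem _ ha
    have h2 : RingHom.ker aug ^ (n + 1) = ⊥ := le_bot_iff.1 ((Ideal.pow_right_mono h _).trans (by
      rw [← Ideal.map_pow, Ideal.map_quotient_self]))
    rw [← Ideal.map_pow, h2, Ideal.map_bot]
  have hnil : RingHom.ker π ≤ J := fun z hz => by
    have := hker z
    rwa [show π z = 0 from hz, map_zero, sub_zero] at this
  let h : VecGrp.pt k (B ⊗[k] A) ⟶ X :=
    smulPt a (VecGrp.ptMap L ≫ g)⁻¹ (VecGrp.ptMap Rr ≫ nbhd hV φ n)
  have hπh : VecGrp.ptMap π ≫ h = toUnit _ ≫ x₀ := by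
    have h1 : VecGrp.ptMap π ≫ VecGrp.ptMap Rr ≫ nbhd hV φ n = toUnit _ ≫ x₀ := by
      rw [← Category.assoc, ptMap_comp, hπR, nbhd, ← Category.assoc, ptMap_comp,
        show ((Algebra.ofId k B).comp aug).comp (Ideal.Quotient.mkₐ k _) = (Algebra.ofId k B).comp φ from rfl,
        ← ptMap_comp, Category.assoc, hφ, ← Category.assoc]
      congr 1
      exact toUnit_unique _ _
    simp only [h, comp_smulPt, h1]
    exact hx _ _
  have hpts : ∀ q, h.left.base q ∈ V := by
    intro q
    have hq : q ∈ Set.range (PrimeSpectrum.comap π.toRingHom) := by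
      rw [range_comap_of_surjective _ π.toRingHom fun b => ⟨L b, congr($(hπL) b)⟩]
      intro z hz
      refine q.isPrime.mem_of_pow_mem (n + 1) ?_
      have : z ^ (n + 1) ∈ J ^ (n + 1) := Ideal.pow_mem_pow (hnil hz) _
      rw [hJ, Ideal.mem_bot] at this
      rw [this]
      exact q.asIdeal.zero_mem
    obtain ⟨q', rfl⟩ := hq
    have h2 : h.left.base ((VecGrp.ptMap π).left.base q') = x₀.left.base ((toUnit (VecGrp.pt k B)).left.base q') := by
      exact congrArg (fun m : VecGrp.pt k B ⟶ X => m.left.base q') hπh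
    refine (congrArg (· ∈ V) h2).mpr ?_
    exact (congrArg (fun z => x₀.left.base z ∈ V) (@Subsingleton.elim _
      (inferInstanceAs (Subsingleton (PrimeSpectrum k))) _ (IsLocalRing.closedPoint k))).mpr hy
  obtain ⟨θ₀, hθ₀⟩ := exists_chart_lift hV h hpts
  have hπθ : π.comp θ₀ = (Algebra.ofId k B).comp φ := by
    refine chart_inj hV _ _ ?_
    rw [← ptMap_comp, Category.assoc, hθ₀, hπh, ← ptMap_comp, Category.assoc, hφ, ← Category.assoc]
    congr 1
    exact toUnit_unique _ _
  have hkill : ∀ a ∈ p ^ (n + 1), θ₀ a = 0 := by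
    have : p.map θ₀ ≤ J := Ideal.map_le_iff_le_comap.2 fun a ha => hnil (by
      have := congr($(hπθ) a)
      simp only [AlgHom.comp_apply] at this
      change π (θ₀ a) = 0
      rw [this, show φ a = 0 from ha, map_zero])
    intro a ha
    have h2 : θ₀ a ∈ (p ^ (n + 1)).map θ₀ := Ideal.mem_map_of_mem _ ha
    rw [Ideal.map_pow] at h2
    have h3 := Ideal.pow_right_mono this _ h2
    rwa [hJ, Ideal.mem_bot] at h3
  refine ⟨Ideal.Quotient.liftₐ _ θ₀ hkill, ?_⟩
  rw [nbhd, ← Category.assoc, ptMap_comp,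
    show (Ideal.Quotient.liftₐ _ θ₀ hkill).comp (Ideal.Quotient.mkₐ k _) = θ₀ from AlgHom.ext fun _ => rfl]
  exact hθ₀

end Fixed

section Generic

variable {A : Type u} [CommRing A] [Algebra k A] (t : VecGrp.pt k A ⟶ X) (a : AlgGrp.Action G X)

/-- A family of translation maps on a finite subscheme gives a module structure. -/
theorem exists_gmod_of_trans
    (hinj : ∀ {C : Type u} [CommRing C] [Algebra k C] (θ θ' : A →ₐ[k] C),
      VecGrp.ptMap θ ≫ t = VecGrp.ptMap θ' ≫ t → θ = θ')
    (hex : ∀ (B : Type u) [CommRing B] [Algebra k B] (g : VecGrp.pt k B ⟶ G), ∃ θ : A →ₐ[k] B ⊗[k] A,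
      VecGrp.ptMap θ ≫ t = smulPt a (lPt g)⁻¹
        (VecGrp.ptMap (Algebra.TensorProduct.includeRight (R := k) (A := B) (B := A)) ≫ t)) :
    ∃ m : VecGrp.GMod G A, ∀ (B : Type u) [CommRing B] [Algebra k B] (g : VecGrp.pt k B ⟶ G),
      m.ρ B g = 1 ↔
        smulPt a (lPt g) (VecGrp.ptMap (Algebra.TensorProduct.includeRight (R := k) (A := B) (B := A)) ≫ t) =
          VecGrp.ptMap (Algebra.TensorProduct.includeRight (R := k) (A := B) (B := A)) ≫ t := by
  choose θ hθ using hex
  let Θ : ∀ (B : Type u) [CommRing B] [Algebra k B], (VecGrp.pt k B ⟶ G) → (B ⊗[k] A →ₐ[B] B ⊗[k] A) :=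
    fun B _ _ g => Algebra.TensorProduct.lift (Algebra.ofId B _) (θ B g) fun _ _ => Commute.all _ _
  have hΘL : ∀ (B : Type u) [CommRing B] [Algebra k B] (g : VecGrp.pt k B ⟶ G),
      ((Θ B g).restrictScalars k).comp Algebra.TensorProduct.includeLeft =
        (Algebra.TensorProduct.includeLeft : B →ₐ[k] B ⊗[k] A) := fun B _ _ g => AlgHom.ext fun b => by
    simp [Θ]
  have hΘR : ∀ (B : Type u) [CommRing B] [Algebra k B] (g : VecGrp.pt k B ⟶ G),
      ((Θ B g).restrictScalars k).comp Algebra.TensorProduct.includeRight = θ B g := fun B _ _ g =>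
    AlgHom.ext fun b => by simp [Θ]
  have ext' : ∀ (B : Type u) [CommRing B] [Algebra k B] (f f' : B ⊗[k] A →ₐ[B] B ⊗[k] A),
      VecGrp.ptMap ((f.restrictScalars k).comp Algebra.TensorProduct.includeRight) ≫ t =
        VecGrp.ptMap ((f'.restrictScalars k).comp Algebra.TensorProduct.includeRight) ≫ t → f = f' :=
    fun B _ _ f f' hff => Algebra.TensorProduct.ext (by ext) (hinj _ _ hff)
  have hΘone : ∀ (B : Type u) [CommRing B] [Algebra k B], Θ B 1 = AlgHom.id B _ := by
    intro B _ _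
    refine ext' B _ _ ?_
    rw [hΘR, hθ, lPt, MonObj.comp_one, inv_one, one_smulPt]
    rfl
  have hΘmul : ∀ (B : Type u) [CommRing B] [Algebra k B] (g h : VecGrp.pt k B ⟶ G),
      Θ B (g * h) = (Θ B g).comp (Θ B h) := by
    intro B _ _ g h
    refine ext' B _ _ ?_
    have e1 : (((Θ B g).comp (Θ B h)).restrictScalars k).comp Algebra.TensorProduct.includeRight =
        ((Θ B g).restrictScalars k).comp (θ B h) := by
      rw [← hΘR B h]; rfl
    have e2 : ∀ q : VecGrp.pt k B ⟶ G, VecGrp.ptMap ((Θ B g).restrictScalars k) ≫ lPt (A := A) q = lPt q := fun q => by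
      rw [lPt, comp_ptMap, hΘL]
    have e3 : VecGrp.ptMap ((Θ B g).restrictScalars k) ≫
          VecGrp.ptMap (Algebra.TensorProduct.includeRight (R := k) (A := B) (B := A)) ≫ t =
        smulPt a (lPt g)⁻¹ (VecGrp.ptMap (Algebra.TensorProduct.includeRight (R := k) (A := B) (B := A)) ≫ t) := by
      rw [comp_ptMap (G := X), hΘR, hθ]
    rw [hΘR, hθ, e1, ← comp_ptMap (G := X), hθ]
    simp only [comp_smulPt, GrpObj.comp_inv]
    rw [e2, e3, ← mul_smulPt]
    simp only [lPt, MonObj.comp_mul, _root_.mul_inv_rev]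
  let ρ : ∀ (B : Type u) [CommRing B] [Algebra k B],
      (VecGrp.pt k B ⟶ G) →* (VecGrp.W k A B ≃ₗ[B] VecGrp.W k A B) := fun B _ _ =>
    { toFun := fun g =>
        { (Θ B g).toLinearMap with
          invFun := Θ B g⁻¹
          left_inv := fun x => by
            change Θ B g⁻¹ (Θ B g x) = x
            rw [← AlgHom.comp_apply, ← hΘmul, inv_mul_cancel, hΘone]; rfl
          right_inv := fun x => by
            change Θ B g (Θ B g⁻¹ x) = x
            rw [← AlgHom.comp_apply, ← hΘmul, mul_inv_cancel, hΘone]; rfl }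
      map_one' := LinearEquiv.ext fun x => by
        change Θ B 1 x = x
        rw [hΘone]; rfl
      map_mul' := fun g h => LinearEquiv.ext fun x => by
        change Θ B (g * h) x = Θ B g (Θ B h x)
        rw [hΘmul]; rfl }
  have nat : ∀ {B B' : Type u} [CommRing B] [Algebra k B] [CommRing B'] [Algebra k B'] (ψ : B →ₐ[k] B')
      (g : VecGrp.pt k B ⟶ G) (x : VecGrp.W k A B),
      VecGrp.Wmap ψ (ρ B g x) = ρ B' (VecGrp.ptMap ψ ≫ g) (VecGrp.Wmap ψ x) := by
    intro B B' _ _ _ _ ψ g x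
    let M : B ⊗[k] A →ₐ[k] B' ⊗[k] A := Algebra.TensorProduct.map ψ (AlgHom.id k A)
    have hM : ∀ y, VecGrp.Wmap (M := A) ψ y = M y := by
      intro y
      induction y using TensorProduct.induction_on with
      | zero => simp
      | tmul b a => simp [VecGrp.Wmap_tmul, M]
      | add x y hx hy => simp only [map_add, hx, hy]
    have hML : M.comp Algebra.TensorProduct.includeLeft = (Algebra.TensorProduct.includeLeft).comp ψ :=
      AlgHom.ext fun b => by simp [M]
    have hMR : M.comp Algebra.TensorProduct.includeRight = Algebra.TensorProduct.includeRight :=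
      AlgHom.ext fun a => by simp [M]
    have hnat : M.comp (θ B g) = θ B' (VecGrp.ptMap ψ ≫ g) := by
      refine hinj _ _ ?_
      rw [← comp_ptMap (G := X), hθ, hθ]
      simp only [comp_smulPt, GrpObj.comp_inv, lPt]
      rw [comp_ptMap, comp_ptMap (G := X), hML, hMR, ← comp_ptMap]
    change VecGrp.Wmap ψ (Θ B g x) = Θ B' (VecGrp.ptMap ψ ≫ g) (VecGrp.Wmap ψ x)
    rw [hM, hM]
    induction x using TensorProduct.induction_on with
    | zero => simp
    | tmul b a =>
      have := congr($(hnat) a)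
      simp only [AlgHom.comp_apply] at this
      simp [Θ, M, ← this]
    | add x y hx hy => simp only [map_add, hx, hy]
  refine ⟨⟨ρ, nat⟩, fun B _ _ g => ⟨fun h => ?_, fun h => ?_⟩⟩
  · have hid : Θ B g = AlgHom.id B _ := AlgHom.ext fun x => congr($h x)
    have h2 := hθ B g
    rw [← hΘR, hid] at h2
    change VecGrp.ptMap (Algebra.TensorProduct.includeRight (R := k) (A := B) (B := A)) ≫ t = _ at h2
    conv_lhs => rw [h2]
    rw [← mul_smulPt, mul_inv_cancel, one_smulPt]
  · have hid : Θ B g = AlgHom.id B _ := ext' B _ _ (by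
      rw [hΘR, hθ]
      conv_lhs => rw [← h, ← mul_smulPt, inv_mul_cancel, one_smulPt]
      rfl)
    exact LinearEquiv.ext fun x => congr($hid x)

end Generic

/-- The kernel of a system of representations on neighbourhoods is the kernel of the action. -/
theorem exists_rep_of_system [LocallyOfFiniteType G.hom] [QuasiCompact G.hom] [G.left.IsSeparated]
    [IsSeparated X.hom] [IsIntegral X.left] (a : AlgGrp.Action G X)
    (x₀ : 𝟙_ (Over (Spec (CommRingCat.of k))) ⟶ X)
    (A : ℕ → Type u) [∀ n, CommRing (A n)] [∀ n, Algebra k (A n)] [∀ n, Module.Finite k (A n)]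
    (t : ∀ n, VecGrp.pt k (A n) ⟶ X)
    (htrans : ∀ n, ∃ f : A (n + 1) →ₐ[k] A n, VecGrp.ptMap f ≫ t (n + 1) = t n)
    (hopen : ∀ {W : Over (Spec (CommRingCat.of k))} (j : W ⟶ X) [IsClosedImmersion j.left],
      (∀ n, ∃ w, w ≫ j = t n) → ∃ (U : Over (Spec (CommRingCat.of k))) (i : U ⟶ X),
        IsOpenImmersion i.left ∧ IsAffine U.left ∧ (∃ e, e ≫ i = x₀) ∧ ∃ w, w ≫ j = i)
    (m : ∀ n, VecGrp.GMod G (A n))
    (hm : ∀ (n : ℕ) (B : Type u) [CommRing B] [Algebra k B] (g : VecGrp.pt k B ⟶ G),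
      (m n).ρ B g = 1 ↔ smulPt a (lPt g)
          (VecGrp.ptMap (Algebra.TensorProduct.includeRight (R := k) (A := B) (B := A n)) ≫ t n) =
        VecGrp.ptMap (Algebra.TensorProduct.includeRight (R := k) (A := B) (B := A n)) ≫ t n) :
    ∃ (n : ℕ) (u : G ⟶ GLSpec k n), IsMonHom u ∧ ∀ (T : Over (Spec (CommRingCat.of k))) (z : T ⟶ G),
      z ≫ u = 1 ↔ ∀ (T' : Over (Spec (CommRingCat.of k))) (t : T' ⟶ T) (y : T' ⟶ X),
        lift (t ≫ z) y ≫ a.act = y := by
  haveI : CompactSpace G.left := QuasiCompact.compactSpace_of_compactSpace G.hom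
  haveI : IsLocallyNoetherian G.left := LocallyOfFiniteType.isLocallyNoetherian G.hom
  choose N ρ hρ using fun n => exists_matRep (m n)
  choose u hu huker using fun n => exists_hom_of_matRep (ρ n)
  haveI := hu
  have hkey : ∀ (n : ℕ) (T : Over (Spec (CommRingCat.of k))) (z : T ⟶ G), z ≫ u n = 1 ↔
      ∀ (B : Type u) [CommRing B] [Algebra k B] (b : VecGrp.pt k B ⟶ T),
        smulPt a (lPt (b ≫ z))
            (VecGrp.ptMap (Algebra.TensorProduct.includeRight (R := k) (A := B) (B := A n)) ≫ t n) =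
          VecGrp.ptMap (Algebra.TensorProduct.includeRight (R := k) (A := B) (B := A n)) ≫ t n := by
    intro n T z
    constructor
    · intro h B _ _ b
      exact (hm n B (b ≫ z)).1 ((hρ n B _).1 ((huker n _ _).1 (by rw [Category.assoc, h, MonObj.comp_one])))
    · intro h
      refine pts_ext fun B _ _ b => ?_
      rw [MonObj.comp_one, ← Category.assoc]
      exact (huker n _ _).2 ((hρ n B _).2 ((hm n B (b ≫ z)).2 (h B b)))
  have hkey' : ∀ (n : ℕ) (T : Over (Spec (CommRingCat.of k))) (z : T ⟶ G), z ≫ u n = 1 →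
      ∀ (T' : Over (Spec (CommRingCat.of k))) (s : T' ⟶ T) (b : T' ⟶ VecGrp.pt k (A n)),
        smulPt a (s ≫ z) (b ≫ t n) = b ≫ t n := by
    intro n T z h T' s b
    refine pts_ext fun C _ _ c => ?_
    obtain ⟨θ, hθ⟩ := pt_exists_ptMap (c ≫ b)
    have h1 := (hkey n T z).1 h C (c ≫ s)
    let M : C ⊗[k] A n →ₐ[k] C := Algebra.TensorProduct.lift (AlgHom.id k C) θ fun _ _ => Commute.all _ _
    have hL : M.comp Algebra.TensorProduct.includeLeft = AlgHom.id k C := AlgHom.ext fun x => by simp [M]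
    have hR : M.comp Algebra.TensorProduct.includeRight = θ := AlgHom.ext fun x => by simp [M]
    have h2 := congrArg (VecGrp.ptMap M ≫ ·) h1
    simp only [comp_smulPt, lPt] at h2
    rw [comp_ptMap (G := X), hR, hθ, comp_ptMap, hL, ptMap_id] at h2
    simp only [Category.id_comp, Category.assoc] at h2
    rw [comp_smulPt]
    exact h2
  have hmono : ∀ n (T : Over (Spec (CommRingCat.of k))) (z : T ⟶ G), z ≫ u (n + 1) = 1 → z ≫ u n = 1 := by
    intro n T z h
    refine (hkey n T z).2 fun B _ _ b => ?_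
    obtain ⟨f, hf⟩ := htrans n
    have h1 := hkey' (n + 1) T z h _ (VecGrp.ptMap Algebra.TensorProduct.includeLeft ≫ b)
      (VecGrp.ptMap (Algebra.TensorProduct.includeRight (R := k) (A := B) (B := A n)) ≫ VecGrp.ptMap f)
    simpa only [Category.assoc, hf] using h1
  let J : ℕ → G.left.IdealSheafData := fun n => GrpField.LimImage.kerIdeal (u n)
  have hJ : Monotone J := monotone_nat_of_le_succ fun n => by
    let K : Over (Spec (CommRingCat.of k)) := Over.mk ((J (n + 1)).subschemeι ≫ G.hom)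
    let κ : K ⟶ G := Over.homMk (J (n + 1)).subschemeι
    have h : κ ≫ u (n + 1) = 1 :=
      (GrpField.LimImage.eq_one_iff_le (u (n + 1)) κ).2 (le_of_eq (Scheme.IdealSheafData.ker_subschemeι _).symm)
    have h2 := (GrpField.LimImage.eq_one_iff_le (u n) κ).1 (hmono n K κ h)
    rwa [show κ.left.ker = J (n + 1) from Scheme.IdealSheafData.ker_subschemeι _] at h2
  obtain ⟨n₀, hn₀⟩ := exists_stable J hJ
  refine ⟨N n₀, u n₀, hu n₀, fun T z => ⟨fun hz => ?_, fun h => ?_⟩⟩
  swap
  · exact (hkey n₀ T z).2 fun B _ _ b => by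
      have h1 := h _ (VecGrp.ptMap (Algebra.TensorProduct.includeLeft (R := k) (S := k) (A := B) (B := A n₀)) ≫ b)
        (VecGrp.ptMap (Algebra.TensorProduct.includeRight (R := k) (A := B) (B := A n₀)) ≫ t n₀)
      rw [Category.assoc] at h1
      exact h1
  let K : Over (Spec (CommRingCat.of k)) := Over.mk ((J n₀).subschemeι ≫ G.hom)
  let κ : K ⟶ G := Over.homMk (J n₀).subschemeι
  have hκ : ∀ n, κ ≫ u n = 1 := fun n => (GrpField.LimImage.eq_one_iff_le (u n) κ).2 (by
    rw [show κ.left.ker = J n₀ from Scheme.IdealSheafData.ker_subschemeι _]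
    rcases le_total n n₀ with h | h
    · exact hJ h
    · exact le_of_eq (hn₀ n h))
  let f : K ⊗ X ⟶ X ⊗ X := lift (smulPt a (fst K X ≫ κ) (snd K X)) (snd K X)
  haveI : IsClosedImmersion (lift (𝟙 X) (𝟙 X)).left := by
    have : (lift (𝟙 X) (𝟙 X)).left = pullback.diagonal X.hom := by
      apply pullback.hom_ext
      · rw [pullback.diagonal_fst]; exact congrArg CommaMorphism.left (lift_fst (𝟙 X) (𝟙 X))
      · rw [pullback.diagonal_snd]; exact congrArg CommaMorphism.left (lift_snd (𝟙 X) (𝟙 X))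
    rw [this]; infer_instance
  obtain ⟨W, j, hj, hW⟩ := ClosedRep.exists_closed_preimage_essFree f (lift (𝟙 X) (𝟙 X))
    (AntiAffRig.isEssentiallyFree_field K.hom)
  have hf : ∀ (T' : Over (Spec (CommRingCat.of k))) (s : T' ⟶ K) (y : T' ⟶ X),
      (∃ b, lift s y ≫ f = b ≫ lift (𝟙 X) (𝟙 X)) ↔ smulPt a (s ≫ κ) y = y := by
    intro T' s y
    simp only [f, comp_lift, Category.comp_id, comp_smulPt, lift_fst_assoc, lift_snd]
    constructor
    · rintro ⟨b, hb⟩
      have h1 := congrArg (· ≫ fst X X) hb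
      have h2 := congrArg (· ≫ snd X X) hb
      simp only [lift_fst, lift_snd] at h1 h2
      rw [h1, h2]
    · intro h
      exact ⟨y, by rw [h]⟩
  have hW' : ∀ (T' : Over (Spec (CommRingCat.of k))) (y : T' ⟶ X), (∃ w, w ≫ j = y) ↔
      ∀ (T'' : Over (Spec (CommRingCat.of k))) (s : T'' ⟶ T') (c : T'' ⟶ K),
        smulPt a (c ≫ κ) (s ≫ y) = s ≫ y := by
    intro T' y
    rw [hW]
    simp only [hf]
  haveI : IsIso j.left := by
    obtain ⟨U, i, hi, -, ⟨e, he⟩, w, hw⟩ := hopen j fun n =>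
      (hW' _ _).2 fun T'' s c => hkey' n K κ (hκ n) T'' c s
    haveI : Surjective j.left := by
      refine ⟨fun y => ?_⟩
      have hne : (Set.range i.left.base).Nonempty :=
        ⟨_, ⟨e.left.base (IsLocalRing.closedPoint k), rfl⟩⟩
      have hd : Dense (Set.range i.left.base) := i.left.isOpenEmbedding.isOpen_range.dense hne
      have hsub : Set.range i.left.base ⊆ Set.range j.left.base := by
        rintro _ ⟨p, rfl⟩
        exact ⟨w.left.base p, by rw [← hw]; rfl⟩
      exact (hj.base_closed.isClosed_range.closure_subset_iff.2 hsub) (hd y)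
    exact isIso_of_isClosedImmersion_of_surjective j.left
  intro T' s y
  have hle := (GrpField.LimImage.eq_one_iff_le (u n₀) z).1 hz
  let l : T.left ⟶ K.left := IsClosedImmersion.lift (J n₀).subschemeι z.left
    (by rw [Scheme.IdealSheafData.ker_subschemeι]; exact hle)
  have hl : l ≫ (J n₀).subschemeι = z.left := IsClosedImmersion.lift_fac _ _ _
  let l' : T ⟶ K := Over.homMk l (by
    change l ≫ (J n₀).subschemeι ≫ G.hom = _
    rw [reassoc_of% hl, Over.w])
  have hl' : l' ≫ κ = z := Over.OverMorphism.ext hl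
  let E : W ≅ X := Over.isoMk (asIso j.left) (Over.w j)
  have := (hW' T' y).1 ⟨y ≫ E.inv, by rw [Category.assoc, show E.inv ≫ j = 𝟙 X from E.inv_hom_id, Category.comp_id]⟩
    T' (𝟙 _) (s ≫ l')
  rwa [Category.id_comp, Category.assoc, hl'] at this

/-- **The kernel of an action with a fixed point is the kernel of a linear representation.** -/
theorem exists_rep_of_fixedPt [LocallyOfFiniteType G.hom] [QuasiCompact G.hom] [IsSeparated X.hom]
    [IsIntegral X.left] [IsLocallyNoetherian X.left] (a : AlgGrp.Action G X)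
    (x₀ : 𝟙_ (Over (Spec (CommRingCat.of k))) ⟶ X) (hx : a.IsFixedPt x₀) :
    ∃ (n : ℕ) (u : G ⟶ GLSpec k n), IsMonHom u ∧ ∀ (T : Over (Spec (CommRingCat.of k))) (z : T ⟶ G),
      z ≫ u = 1 ↔ ∀ (T' : Over (Spec (CommRingCat.of k))) (t : T' ⟶ T) (y : T' ⟶ X),
        lift (t ≫ z) y ≫ a.act = y := by
  haveI : IsSeparated G.hom := GrpField.isSeparated_hom G
  haveI : G.left.IsSeparated := ⟨by
    rw [Subsingleton.elim (terminal.from G.left) (G.hom ≫ terminal.from _)]; infer_instance⟩
  obtain ⟨_, ⟨V, hV, rfl⟩, hy, -⟩ := X.left.isBasis_affineOpens.exists_subset_of_mem_open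
    (Set.mem_univ (x₀.left.base (IsLocalRing.closedPoint k))) isOpen_univ
  letI := AffHull.secAlg hV
  haveI : IsNoetherianRing Γ(X.left, V) := IsLocallyNoetherian.component_noetherian ⟨V, hV⟩
  obtain ⟨φ, hφ⟩ := exists_aug hV x₀ hy
  choose m hm using fun n => exists_gmod_of_trans (nbhd hV φ n) a (fun θ θ' h => nbhd_inj hV φ n θ θ' h)
    (fun B _ _ g => exists_trans hV a x₀ hy hx φ hφ n B g)
  haveI := fun n => finite_quotient_pow φ n
  refine exists_rep_of_system a x₀ (fun n : ℕ => Γ(X.left, V) ⧸ RingHom.ker φ ^ (n + 1))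
    (fun n => nbhd hV φ n) (fun n => ?_) (fun j _ h => exists_open_of_nbhd_noeth hV x₀ φ hφ j h) m hm
  refine ⟨Ideal.Quotient.factorₐ k (Ideal.pow_le_pow_right (Nat.le_succ _)), ?_⟩
  change VecGrp.ptMap _ ≫ VecGrp.ptMap _ ≫ AffHull.secPt hV = VecGrp.ptMap _ ≫ AffHull.secPt hV
  rw [comp_ptMap (G := X)]
  rfl

end Groth.Agent.AdjRep
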