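import Groth.Agent.AffHull.GModTriv
import Mathlib.AlgebraicGeometry.Sites.Fpqc

/-!
# From module structures to homomorphisms into general linear groups

Morphisms and functions are determined by their values at affine points; a module structure of finite
dimension therefore gives a matrix of functions and a homomorphism to the affine group `GL_n`.
-/

set_option autoImplicit false

universe u

noncomputable section

open CategoryTheory CategoryTheory.Limits MonoidalCategory CartesianMonoidalCategory MonObj GrpObj AlgebraicGeometry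
open scoped TensorProduct

namespace Groth.Agent.AdjRep

variable {k : Type u} [Field k]

/-- Morphisms over the field are determined by their values on affine points. -/
theorem pts_ext {T Y : Over (Spec (CommRingCat.of k))} {f f' : T ⟶ Y}
    (h : ∀ (B : Type u) [CommRing B] [Algebra k B] (b : VecGrp.pt k B ⟶ T), b ≫ f = b ≫ f') : f = f' := by
  ext : 1
  refine T.left.affineOpenCover.openCover.hom_ext _ _ fun i => ?_
  let R : CommRingCat.{u} := T.left.affineOpenCover.X i
  let e : Spec R ⟶ T.left := T.left.affineOpenCover.f i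
  letI : Algebra k R := (Spec.preimage (e ≫ T.hom)).hom.toAlgebra
  let b : VecGrp.pt k R ⟶ T := Over.homMk e (Spec.map_preimage (e ≫ T.hom)).symm
  exact congrArg CommaMorphism.left (h R b)

/-- The value of a function at an affine point. -/
def val {T : Over (Spec (CommRingCat.of k))} {B : Type u} [CommRing B] [Algebra k B]
    (b : VecGrp.pt k B ⟶ T) : Γ(T.left, ⊤) →+* B :=
  (b.left.appTop ≫ (Scheme.ΓSpecIso (CommRingCat.of B)).hom).hom

theorem val_comp {T T' : Over (Spec (CommRingCat.of k))} {B : Type u} [CommRing B] [Algebra k B]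
    (b : VecGrp.pt k B ⟶ T) (g : T ⟶ T') (x : Γ(T'.left, ⊤)) :
    val (b ≫ g) x = val b (g.left.appTop x) := rfl

theorem val_map {T : Over (Spec (CommRingCat.of k))} {B B' : Type u} [CommRing B] [Algebra k B]
    [CommRing B'] [Algebra k B'] (φ : B →ₐ[k] B') (b : VecGrp.pt k B ⟶ T) (x : Γ(T.left, ⊤)) :
    val (VecGrp.ptMap φ ≫ b) x = φ (val b x) :=
  congr($(Scheme.ΓSpecIso_naturality (CommRingCat.ofHom φ.toRingHom)) (b.left.appTop x))

theorem val_secPt {T : Over (Spec (CommRingCat.of k))} {U : T.left.Opens} (hU : IsAffineOpen U)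
    (x : Γ(T.left, ⊤)) :
    letI := AffHull.secAlg hU; val (AffHull.secPt hU) x = T.left.presheaf.map (homOfLE le_top).op x := by
  letI := AffHull.secAlg hU
  have := congr($(congrArg Scheme.Hom.appTop hU.fromSpec_toSpecΓ) ((Scheme.ΓSpecIso Γ(T.left, ⊤)).inv x))
  simp only [Scheme.Hom.comp_appTop, Scheme.toSpecΓ_appTop, CommRingCat.comp_apply,
    Iso.inv_hom_id_apply] at this
  change (Scheme.ΓSpecIso Γ(T.left, U)).hom (hU.fromSpec.appTop x) = _
  rw [this]
  exact congr($(Scheme.ΓSpecIso_naturality (T.left.presheaf.map (homOfLE le_top).op))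
      ((Scheme.ΓSpecIso Γ(T.left, ⊤)).inv x)).trans (by simp)

/-- Functions are determined by their values on affine points. -/
theorem val_ext {T : Over (Spec (CommRingCat.of k))} {x y : Γ(T.left, ⊤)}
    (h : ∀ (B : Type u) [CommRing B] [Algebra k B] (b : VecGrp.pt k B ⟶ T), val b x = val b y) : x = y := by
  refine TopCat.Sheaf.eq_of_locally_eq' T.left.sheaf (fun U : T.left.affineOpens => U.1) ⊤
    (fun U => homOfLE le_top) (le_of_eq (iSup_affineOpens_eq_top _).symm) _ _ fun U => ?_
  letI := AffHull.secAlg U.2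
  exact (val_secPt U.2 x).symm.trans ((h _ (AffHull.secPt U.2)).trans (val_secPt U.2 y))

/-- A natural family of functions on affine points comes from a function. -/
theorem exists_val {T : Over (Spec (CommRingCat.of k))} [T.left.IsSeparated]
    (a : ∀ (B : Type u) [CommRing B] [Algebra k B], (VecGrp.pt k B ⟶ T) → B)
    (ha : ∀ {B B' : Type u} [CommRing B] [Algebra k B] [CommRing B'] [Algebra k B'] (φ : B →ₐ[k] B')
      (b : VecGrp.pt k B ⟶ T), a B' (VecGrp.ptMap φ ≫ b) = φ (a B b)) :
    ∃ x : Γ(T.left, ⊤), ∀ (B : Type u) [CommRing B] [Algebra k B] (b : VecGrp.pt k B ⟶ T), val b x = a B b := by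
  let s : ∀ U : T.left.affineOpens, Γ(T.left, U.1) := fun U =>
    letI := AffHull.secAlg U.2; a Γ(T.left, U.1) (AffHull.secPt U.2)
  have hres : ∀ (U V : T.left.affineOpens) (h : V.1 ≤ U.1),
      T.left.presheaf.map (homOfLE h).op (s U) = s V := by
    intro U V h
    letI := AffHull.secAlg U.2
    letI := AffHull.secAlg V.2
    let φ : Γ(T.left, U.1) →ₐ[k] Γ(T.left, V.1) :=
      { toRingHom := (T.left.presheaf.map (homOfLE h).op).hom
        commutes' := fun c => by
          have e : Spec.preimage (U.2.fromSpec ≫ T.hom) ≫ T.left.presheaf.map (homOfLE h).op =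
              Spec.preimage (V.2.fromSpec ≫ T.hom) := by
            apply Spec.map_injective
            rw [Spec.map_comp, Spec.map_preimage, Spec.map_preimage, U.2.map_fromSpec_assoc V.2]
          exact congr($(e) c) }
    have hp : VecGrp.ptMap φ ≫ AffHull.secPt U.2 = AffHull.secPt V.2 :=
      Over.OverMorphism.ext (U.2.map_fromSpec V.2 (homOfLE h).op)
    change φ (a _ (AffHull.secPt U.2)) = a _ (AffHull.secPt V.2)
    rw [← ha, hp]
  obtain ⟨x, hx, -⟩ := TopCat.Sheaf.existsUnique_gluing' T.left.sheaf
    (fun U : T.left.affineOpens => U.1) ⊤ (fun U => homOfLE le_top)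
    (le_of_eq (iSup_affineOpens_eq_top _).symm) s (fun U V => by
      have hUV : IsAffineOpen (U.1 ⊓ V.1) := U.2.inf V.2
      exact (hres U ⟨_, hUV⟩ inf_le_left).trans (hres V ⟨_, hUV⟩ inf_le_right).symm)
  refine ⟨x, fun B _ _ b => ?_⟩
  rw [← sub_eq_zero]
  refine AffHull.eq_zero_of_locally _ fun p => ?_
  obtain ⟨_, ⟨U, hU, rfl⟩, hxU, -⟩ := T.left.isBasis_affineOpens.exists_subset_of_mem_open
    (Set.mem_univ (b.left.base p)) isOpen_univ
  obtain ⟨_, ⟨f, rfl⟩, hpf, hfU⟩ := PrimeSpectrum.isTopologicalBasis_basic_opens.exists_subset_of_mem_open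
    (u := (b.left ⁻¹ᵁ U).carrier) hxU (b.left ⁻¹ᵁ U).2
  refine ⟨f, hpf, ?_⟩
  letI := AffHull.secAlg hU
  let L := CommRingCat.of (Localization.Away f)
  let l : Spec L ⟶ Spec (CommRingCat.of B) := Spec.map (CommRingCat.ofHom (algebraMap B (Localization.Away f)))
  have hrange : Set.range (l ≫ b.left).base ⊆ Set.range hU.fromSpec.base := by
    rw [hU.range_fromSpec]
    rintro _ ⟨q, rfl⟩
    refine hfU ?_
    have : l.base q ∈ Set.range (PrimeSpectrum.comap (algebraMap B (Localization.Away f))) := ⟨q, rfl⟩
    rwa [PrimeSpectrum.localization_away_comap_range (Localization.Away f) f] at this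
  haveI : IsOpenImmersion hU.fromSpec := hU.isOpenImmersion_fromSpec
  let w := IsOpenImmersion.lift hU.fromSpec (l ≫ b.left) hrange
  have hw : w ≫ hU.fromSpec = l ≫ b.left := IsOpenImmersion.lift_fac _ _ _
  let ψ : Γ(T.left, U) →ₐ[k] Localization.Away f :=
    { toRingHom := (Spec.preimage w).hom
      commutes' := fun c => by
        have e : Spec.preimage (hU.fromSpec ≫ T.hom) ≫ Spec.preimage w =
            CommRingCat.ofHom (algebraMap k (Localization.Away f)) := by
          apply Spec.map_injective
          rw [Spec.map_comp, Spec.map_preimage, Spec.map_preimage, reassoc_of% hw, Over.w b]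
          change Spec.map _ ≫ Spec.map _ = _
          rw [← Spec.map_comp]
          rfl
        exact congr($(e) c) }
  let φ : B →ₐ[k] Localization.Away f := IsScalarTower.toAlgHom k B _
  have hp : VecGrp.ptMap φ ≫ b = VecGrp.ptMap ψ ≫ AffHull.secPt hU :=
    Over.OverMorphism.ext (hw.symm.trans (congrArg (· ≫ hU.fromSpec) (Spec.map_preimage w).symm))
  change φ (_ - _) = 0
  rw [map_sub, sub_eq_zero]
  refine (val_map φ b x).symm.trans (Eq.trans ?_ (ha φ b))
  rw [hp]
  refine (val_map ψ _ x).trans (Eq.trans ?_ (ha ψ _).symm)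
  exact congrArg ψ ((val_secPt hU x).trans (hx ⟨U, hU⟩))

variable {G : Over (Spec (CommRingCat.of k))} [GrpObj G]

/-- The matrix of functions of a module structure of finite dimension. -/
theorem exists_matRep [G.left.IsSeparated] {M : Type u} [AddCommGroup M] [Module k M] [Module.Finite k M]
    (m : VecGrp.GMod G M) :
    ∃ (n : ℕ) (ρ : AffHull.MatRep G n), ∀ (B : Type u) [CommRing B] [Algebra k B] (g : VecGrp.pt k B ⟶ G),
      ρ.R g = 1 ↔ m.ρ B g = 1 := by
  classical
  let b := Module.finBasis k M
  let b' := b.reindex Equiv.ulift.{u}.symm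
  choose a ha using fun ij : Fin (Module.finrank k M) × Fin (Module.finrank k M) => exists_val (T := G)
    (fun B _ _ g => AffHull.gmat b' m B g ⟨ij.1⟩ ⟨ij.2⟩) (fun φ g => AffHull.gmat_map b' m φ g _ _)
  have hval : ∀ {T : Over (Spec (CommRingCat.of k))} (g : T ⟶ G) (B : Type u) [CommRing B] [Algebra k B]
      (c : VecGrp.pt k B ⟶ T) (i j), val c (g.left.appTop (a (i, j))) = AffHull.gmat b' m B (c ≫ g) ⟨i⟩ ⟨j⟩ :=
    fun g B _ _ c i j => by rw [← val_comp, ha]
  have hone : ∀ (B : Type u) [CommRing B] [Algebra k B] (i j : ULift.{u} (Fin (Module.finrank k M))),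
      AffHull.gmat b' m B 1 i j = if i = j then 1 else 0 := fun B _ _ i j => by
    rw [AffHull.gmat, _root_.map_one, LinearEquiv.coe_one, id_eq, ← Algebra.TensorProduct.basis_apply,
      Module.Basis.repr_self, Finsupp.single_apply]
    simp [eq_comm]
  let ρ : AffHull.MatRep G (Module.finrank k M) :=
    { R := fun {T} g => Matrix.of fun i j => g.left.appTop (a (i, j))
      map_mul := fun {T} g h => by
        ext i j
        refine val_ext fun B _ _ c => ?_
        simp only [Matrix.mul_apply, Matrix.of_apply, map_sum, map_mul, hval]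
        rw [MonObj.comp_mul]
        unfold AffHull.gmat
        rw [map_mul, LinearEquiv.mul_apply]
        generalize hy : (m.ρ B (c ≫ h)) ((1 : B) ⊗ₜ[k] b' ⟨j⟩) = y
        conv_lhs => rw [← (Algebra.TensorProduct.basis B b').sum_repr y]
        simp only [map_sum, map_smul, Finsupp.coe_finsetSum, Finset.sum_apply, Finsupp.smul_apply,
          smul_eq_mul, Algebra.TensorProduct.basis_apply, ← hy]
        rw [← (Equiv.ulift.{u}.symm).sum_comp]
        exact Finset.sum_congr rfl fun l _ => mul_comm _ _
      map_one := fun {T} => by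
        ext i j
        refine val_ext fun B _ _ c => ?_
        rw [Matrix.of_apply, hval, MonObj.comp_one, hone, Matrix.one_apply]
        split_ifs <;> simp_all
      natural := fun {T T'} t g => by
        ext i j
        rfl }
  refine ⟨_, ρ, fun B _ _ g => ⟨fun h => ?_, fun h => ?_⟩⟩
  · refine AffHull.eq_one_of_gmat b' m B g fun i j => ?_
    have h1 := congrArg (val (𝟙 _)) (congrFun (congrFun h i.down) j.down)
    simp only [ρ, Matrix.of_apply, hval, Category.id_comp, Matrix.one_apply] at h1
    rw [show i = ⟨i.down⟩ from rfl, show j = ⟨j.down⟩ from rfl, h1]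
    split_ifs <;> simp_all
  · ext i j
    refine val_ext fun C _ _ c => ?_
    obtain ⟨φ, rfl⟩ : ∃ φ : B →ₐ[k] C, VecGrp.ptMap φ = c := by
      refine ⟨{ toRingHom := (Spec.preimage c.left).hom, commutes' := fun x => ?_ },
        Over.OverMorphism.ext (Spec.map_preimage _)⟩
      have e : CommRingCat.ofHom (algebraMap k B) ≫ Spec.preimage c.left = CommRingCat.ofHom (algebraMap k C) := by
        apply Spec.map_injective
        rw [Spec.map_comp, Spec.map_preimage]
        exact Over.w c
      exact congr($(e) x)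
    simp only [ρ, Matrix.of_apply, hval, AffHull.gmat_map]
    rw [show AffHull.gmat b' m B g ⟨i⟩ ⟨j⟩ = AffHull.gmat b' m B 1 ⟨i⟩ ⟨j⟩ by
      unfold AffHull.gmat; rw [h, _root_.map_one], hone, Matrix.one_apply]
    split_ifs <;> simp_all

end Groth.Agent.AdjRep
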