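import Groth.Agent.AdjRep.Conj
import Groth.Agent.AntiAffRig.Basic
import Groth.Agent.S7519

/-!
# The centre of a connected group is the kernel of a linear representation
-/

set_option autoImplicit false

universe u

noncomputable section

open CategoryTheory CategoryTheory.Limits MonoidalCategory CartesianMonoidalCategory MonObj GrpObj AlgebraicGeometry
open scoped TensorProduct

namespace Groth.Agent.AdjRep

variable {k : Type u} [Field k]

instance (n : ℕ) : IsAffine (GLSpec k n).left := inferInstanceAs (IsAffine (Spec _))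

instance (n : ℕ) : LocallyOfFiniteType (GLSpec k n).hom := by
  have : Algebra.FiniteType k (CoordGrp.GLb n k) :=
    inferInstanceAs (Algebra.FiniteType k (MvPolynomial (CoordGrp.GLPoly.Idx n) k))
  have : Algebra.FiniteType k (CoordGrp.GLn n k) :=
    Algebra.FiniteType.of_surjective (CoordGrp.GLn.mk n k) (Ideal.Quotient.mkₐ_surjective k _)
  exact inferInstanceAs (LocallyOfFiniteType (Spec (CommRingCat.of (CoordGrp.GLn n k)) ↘ Spec (CommRingCat.of k)))

theorem pt_exists_ptMap {B C : Type u} [CommRing B] [Algebra k B] [CommRing C] [Algebra k C]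
    (c : VecGrp.pt k C ⟶ VecGrp.pt k B) : ∃ φ : B →ₐ[k] C, VecGrp.ptMap φ = c := by
  refine ⟨{ toRingHom := (Spec.preimage c.left).hom, commutes' := fun x => ?_ },
    Over.OverMorphism.ext (Spec.map_preimage _)⟩
  have e : CommRingCat.ofHom (algebraMap k B) ≫ Spec.preimage c.left = CommRingCat.ofHom (algebraMap k C) := by
    apply Spec.map_injective
    rw [Spec.map_comp, Spec.map_preimage]
    exact Over.w c
  exact congr($(e) x)

/-- The kernel of a system of representations on neighbourhoods is the centre. -/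
theorem exists_adjoint_of_system (G : Over (Spec (CommRingCat.of k))) [GrpObj G] [LocallyOfFiniteType G.hom]
    [QuasiCompact G.hom] [ConnectedSpace G.left] [IsSeparated G.hom] [G.left.IsSeparated]
    (A : ℕ → Type u) [∀ n, CommRing (A n)] [∀ n, Algebra k (A n)] [∀ n, Module.Finite k (A n)]
    (t : ∀ n, VecGrp.pt k (A n) ⟶ G)
    (htrans : ∀ n, ∃ f : A (n + 1) →ₐ[k] A n, VecGrp.ptMap f ≫ t (n + 1) = t n)
    (hopen : ∀ {W : Over (Spec (CommRingCat.of k))} (j : W ⟶ G) [IsClosedImmersion j.left],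
      (∀ n, ∃ w, w ≫ j = t n) → ∃ (U : Over (Spec (CommRingCat.of k))) (i : U ⟶ G),
        IsOpenImmersion i.left ∧ IsAffine U.left ∧ (∃ e, e ≫ i = η[G]) ∧ ∃ w, w ≫ j = i)
    (m : ∀ n, VecGrp.GMod G (A n))
    (hm : ∀ (n : ℕ) (B : Type u) [CommRing B] [Algebra k B] (g : VecGrp.pt k B ⟶ G),
      (m n).ρ B g = 1 ↔ lPt g * rPt (t n) B = rPt (t n) B * lPt g) :
    ∃ (n : ℕ) (u : G ⟶ GLSpec k n), IsMonHom u ∧ ∀ (T : Over (Spec (CommRingCat.of k))) (z : T ⟶ G),
      z ≫ u = 1 ↔ ∀ (T' : Over (Spec (CommRingCat.of k))) (t : T' ⟶ T) (h : T' ⟶ G),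
        (t ≫ z) * h = h * (t ≫ z) := by
  haveI : CompactSpace G.left := QuasiCompact.compactSpace_of_compactSpace G.hom
  haveI : IsLocallyNoetherian G.left := LocallyOfFiniteType.isLocallyNoetherian G.hom
  choose N ρ hρ using fun n => exists_matRep (m n)
  choose u hu huker using fun n => exists_hom_of_matRep (ρ n)
  haveI := hu
  -- commuting with the neighbourhood
  have hkey : ∀ (n : ℕ) (T : Over (Spec (CommRingCat.of k))) (z : T ⟶ G), z ≫ u n = 1 ↔
      ∀ (B : Type u) [CommRing B] [Algebra k B] (b : VecGrp.pt k B ⟶ T),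
        lPt (A := A n) (b ≫ z) * rPt (t n) B = rPt (t n) B * lPt (A := A n) (b ≫ z) := by
    intro n T z
    constructor
    · intro h B _ _ b
      exact (hm n B (b ≫ z)).1 ((hρ n B _).1 ((huker n _ _).1 (by rw [Category.assoc, h, MonObj.comp_one])))
    · intro h
      refine pts_ext fun B _ _ b => ?_
      rw [MonObj.comp_one, ← Category.assoc]
      exact (huker n _ _).2 ((hρ n B _).2 ((hm n B (b ≫ z)).2 (h B b)))
  -- commuting with the neighbourhood on arbitrary test objects
  have hkey' : ∀ (n : ℕ) (T : Over (Spec (CommRingCat.of k))) (z : T ⟶ G), z ≫ u n = 1 →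
      ∀ (T' : Over (Spec (CommRingCat.of k))) (a : T' ⟶ T) (b : T' ⟶ VecGrp.pt k (A n)),
        (a ≫ z) * (b ≫ t n) = (b ≫ t n) * (a ≫ z) := by
    intro n T z h T' a b
    refine pts_ext fun C _ _ c => ?_
    obtain ⟨θ, hθ⟩ := pt_exists_ptMap (c ≫ b)
    have h1 := (hkey n T z).1 h C (c ≫ a)
    let M : C ⊗[k] A n →ₐ[k] C := Algebra.TensorProduct.lift (AlgHom.id k C) θ fun _ _ => Commute.all _ _
    have hL : M.comp Algebra.TensorProduct.includeLeft = AlgHom.id k C := AlgHom.ext fun x => by simp [M]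
    have hR : M.comp Algebra.TensorProduct.includeRight = θ := AlgHom.ext fun x => by simp [M]
    have h2 := congrArg (VecGrp.ptMap M ≫ ·) h1
    simp only [MonObj.comp_mul, lPt, rPt, comp_ptMap, hL, hR, hθ, ptMap_id, Category.id_comp,
      Category.assoc] at h2
    simpa only [MonObj.comp_mul, ← Category.assoc] using h2
  -- monotonicity
  have hmono : ∀ n (T : Over (Spec (CommRingCat.of k))) (z : T ⟶ G), z ≫ u (n + 1) = 1 → z ≫ u n = 1 := by
    intro n T z h
    refine (hkey n T z).2 fun B _ _ b => ?_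
    obtain ⟨f, hf⟩ := htrans n
    have h1 := hkey' (n + 1) T z h _ (VecGrp.ptMap Algebra.TensorProduct.includeLeft ≫ b)
      (VecGrp.ptMap (Algebra.TensorProduct.includeRight (R := k) (A := B) (B := A n)) ≫ VecGrp.ptMap f)
    simpa only [Category.assoc, hf] using h1
  let J : ℕ → G.left.IdealSheafData := fun n => GrpField.LimImage.kerIdeal (u n)
  have hJ : Monotone J := monotone_nat_of_le_succ fun n => by
    let K : Over (Spec (CommRingCat.of k)) := Over.mk ((J (n + 1)).subschemeι ≫ G.hom)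
    let κ : K ⟶ G := Over.homMk (J (n + 1)).subschemeι
    have h : κ ≫ u (n + 1) = 1 :=
      (GrpField.LimImage.eq_one_iff_le (u (n + 1)) κ).2 (le_of_eq (Scheme.IdealSheafData.ker_subschemeι _).symm)
    have h2 := (GrpField.LimImage.eq_one_iff_le (u n) κ).1 (hmono n K κ h)
    rwa [show κ.left.ker = J (n + 1) from Scheme.IdealSheafData.ker_subschemeι _] at h2
  obtain ⟨n₀, hn₀⟩ := exists_stable J hJ
  refine ⟨N n₀, u n₀, hu n₀, fun T z => ⟨fun hz => ?_, fun h => ?_⟩⟩
  swap
  · exact (hkey n₀ T z).2 fun B _ _ b => by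
      have h1 := h _ (VecGrp.ptMap (Algebra.TensorProduct.includeLeft (R := k) (S := k) (A := B) (B := A n₀)) ≫ b)
        (rPt (t n₀) B)
      rw [Category.assoc] at h1
      exact h1
  let K : Over (Spec (CommRingCat.of k)) := Over.mk ((J n₀).subschemeι ≫ G.hom)
  let κ : K ⟶ G := Over.homMk (J n₀).subschemeι
  have hκ : ∀ n, κ ≫ u n = 1 := fun n => (GrpField.LimImage.eq_one_iff_le (u n) κ).2 (by
    rw [show κ.left.ker = J n₀ from Scheme.IdealSheafData.ker_subschemeι _]
    rcases le_total n n₀ with h | h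
    · exact hJ h
    · exact le_of_eq (hn₀ n h))
  -- the centraliser of the kernel
  let f : K ⊗ G ⟶ G := ((fst K G ≫ κ) * snd K G) * (snd K G * (fst K G ≫ κ))⁻¹
  haveI := GrpField.isClosedImmersion_eta G
  obtain ⟨W, j, hj, hW⟩ := ClosedRep.exists_closed_preimage_essFree f η[G]
    (AntiAffRig.isEssentiallyFree_field K.hom)
  have hf : ∀ (T' : Over (Spec (CommRingCat.of k))) (a : T' ⟶ K) (y : T' ⟶ G),
      (∃ b, lift a y ≫ f = b ≫ η[G]) ↔ (a ≫ κ) * y = y * (a ≫ κ) := by
    intro T' a y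
    simp only [f, MonObj.comp_mul, GrpObj.comp_inv, lift_fst_assoc, lift_snd, mul_inv_eq_iff_eq_mul]
    constructor
    · rintro ⟨b, hb⟩
      rw [hb, toUnit_unique b (toUnit _), ← Hom.one_def, _root_.one_mul]
    · intro h
      exact ⟨toUnit _, by rw [h, ← Hom.one_def, _root_.one_mul]⟩
  have hW' : ∀ (T' : Over (Spec (CommRingCat.of k))) (y : T' ⟶ G), (∃ w, w ≫ j = y) ↔
      ∀ (T'' : Over (Spec (CommRingCat.of k))) (s : T'' ⟶ T') (a : T'' ⟶ K),
        (a ≫ κ) * (s ≫ y) = (s ≫ y) * (a ≫ κ) := by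
    intro T' y
    rw [hW]
    simp only [hf]
  haveI : IsIso j := by
    obtain ⟨U, i, hi, hUa, hUe, hUw⟩ := hopen j fun n =>
      (hW' _ _).2 fun T'' s a => hkey' n K κ (hκ n) T'' a s
    refine AntiAffRig.isIso_of_mul_stable j (fun T' a b ha hb => ?_) U i hUe hUw
    rw [hW'] at ha hb ⊢
    intro T'' s c
    rw [MonObj.comp_mul, ← _root_.mul_assoc, ha T'' s c, _root_.mul_assoc, hb T'' s c, _root_.mul_assoc]
  intro T' s h
  have hle := (GrpField.LimImage.eq_one_iff_le (u n₀) z).1 hz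
  let l : T.left ⟶ K.left := IsClosedImmersion.lift (J n₀).subschemeι z.left
    (by rw [Scheme.IdealSheafData.ker_subschemeι]; exact hle)
  have hl : l ≫ (J n₀).subschemeι = z.left := IsClosedImmersion.lift_fac _ _ _
  let l' : T ⟶ K := Over.homMk l (by
    change l ≫ (J n₀).subschemeι ≫ G.hom = _
    rw [reassoc_of% hl, Over.w])
  have hl' : l' ≫ κ = z := Over.OverMorphism.ext hl
  have := (hW' T' h).1 ⟨h ≫ inv j, by simp⟩ T' (𝟙 _) (s ≫ l')
  rwa [Category.id_comp, Category.assoc, hl'] at this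

/-- **The centre of a connected group is the kernel of a representation.** -/
theorem exists_adjoint (G : Over (Spec (CommRingCat.of k))) [GrpObj G] [LocallyOfFiniteType G.hom]
    [QuasiCompact G.hom] [ConnectedSpace G.left] :
    ∃ (n : ℕ) (u : G ⟶ GLSpec k n), IsMonHom u ∧ ∀ (T : Over (Spec (CommRingCat.of k))) (z : T ⟶ G),
      z ≫ u = 1 ↔ ∀ (T' : Over (Spec (CommRingCat.of k))) (t : T' ⟶ T) (h : T' ⟶ G),
        (t ≫ z) * h = h * (t ≫ z) := by
  haveI : IsSeparated G.hom := GrpField.isSeparated_hom G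
  haveI : G.left.IsSeparated := ⟨by
    rw [Subsingleton.elim (terminal.from G.left) (G.hom ≫ terminal.from _)]; infer_instance⟩
  obtain ⟨_, ⟨V, hV, rfl⟩, hy, -⟩ := G.left.isBasis_affineOpens.exists_subset_of_mem_open
    (Set.mem_univ ((η[G] : 𝟙_ (Over (Spec (CommRingCat.of k))) ⟶ G).left.base (IsLocalRing.closedPoint k))) isOpen_univ
  letI := AffHull.secAlg hV
  obtain ⟨φ, hφ⟩ := exists_aug hV (η[G]) hy
  choose m hm using fun n => exists_gmod hV hy φ hφ n
  haveI := fun n => finite_quotient hV n φ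
  refine exists_adjoint_of_system G (fun n : ℕ => Γ(G.left, V) ⧸ RingHom.ker φ ^ (n + 1))
    (fun n => nbhd hV φ n) (fun n => ?_) (fun j _ h => exists_open_of_nbhd hV (η[G]) φ hφ j h) m hm
  refine ⟨Ideal.Quotient.factorₐ k (Ideal.pow_le_pow_right (Nat.le_succ _)), ?_⟩
  change VecGrp.ptMap _ ≫ VecGrp.ptMap _ ≫ AffHull.secPt hV = VecGrp.ptMap _ ≫ AffHull.secPt hV
  rw [comp_ptMap]
  rfl

/-- The centre of a connected group, with affine quotient. -/
theorem exists_centre_affine_quotient (G : Over (Spec (CommRingCat.of k))) [GrpObj G]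
    [LocallyOfFiniteType G.hom] [QuasiCompact G.hom] [ConnectedSpace G.left] :
    ∃ (Z : Over (Spec (CommRingCat.of k))) (_ : GrpObj Z) (i : Z ⟶ G), IsMonHom i ∧ IsClosedImmersion i.left ∧
      (∀ (T : Over (Spec (CommRingCat.of k))) (g : T ⟶ G), (∃ z : T ⟶ Z, z ≫ i = g) ↔
        ∀ (T' : Over (Spec (CommRingCat.of k))) (t : T' ⟶ T) (h : T' ⟶ G), (t ≫ g) * h = h * (t ≫ g)) ∧
      ∃ (Q : Over (Spec (CommRingCat.of k))) (_ : GrpObj Q) (q : G ⟶ Q), IsMonHom q ∧ IsAffine Q.left ∧
        LocallyOfFiniteType Q.hom ∧ Flat q.left ∧ Surjective q.left ∧ AlgGrp.IsKernel i q := by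
  obtain ⟨n, u, hu, hker⟩ := exists_adjoint G
  obtain ⟨C, hC, p, c, hp, hc, hpc, hsurj, hflat, hcl, haff, -⟩ :=
    GrpField.AffImage.exists_factor_affine (G' := GLSpec k n) u
  haveI : Mono c.left := inferInstance
  haveI : Mono c := Over.mono_of_mono_left c
  obtain ⟨Z, i, hi, hZ⟩ := S7519.result k G
  have hpu : ∀ (T : Over (Spec (CommRingCat.of k))) (z : T ⟶ G), z ≫ p = 1 ↔ z ≫ u = 1 := by
    intro T z
    rw [← hpc, ← Category.assoc]
    constructor
    · intro h; rw [h, MonObj.one_comp]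
    · intro h; rw [← cancel_mono c, h, MonObj.one_comp]
  haveI : Mono i.left := inferInstance
  haveI : Mono i := Over.mono_of_mono_left i
  have hmem : ∀ (T : Over (Spec (CommRingCat.of k))) (g : T ⟶ G), (∃ z : T ⟶ Z, z ≫ i = g) ↔ g ≫ p = 1 := by
    intro T g; rw [hZ, hpu, hker]
  have hmul : ∃ z, z ≫ i = (fst Z Z ≫ i) * (snd Z Z ≫ i) := (hmem _ _).2 (by
    have := (hmem Z i).1 ⟨𝟙 _, Category.id_comp _⟩
    rw [MonObj.mul_comp, Category.assoc, Category.assoc, this, MonObj.comp_one, MonObj.comp_one, _root_.one_mul])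
  obtain ⟨μZ, hμ⟩ := hmul
  obtain ⟨eZ, he⟩ := (hmem (𝟙_ _) η[G]).2 ((IsMonHom.one_hom (f := p)).trans (by rw [Hom.one_def, toUnit_unit, Category.id_comp]))
  obtain ⟨vZ, hv⟩ : ∃ z, z ≫ i = i⁻¹ := (hmem _ _).2 (by
    rw [GrpObj.inv_comp, (hmem Z i).1 ⟨𝟙 _, Category.id_comp _⟩, inv_one])
  letI inst : GrpObj Z :=
    { one := eZ
      mul := μZ
      inv := vZ
      one_mul := by
        rw [← cancel_mono i, Category.assoc, hμ, MonObj.comp_mul, whiskerRight_fst_assoc, he,
          whiskerRight_snd_assoc, toUnit_unique (fst _ Z) (toUnit _), ← Hom.one_def, _root_.one_mul,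
          leftUnitor_hom]
      mul_one := by
        rw [← cancel_mono i, Category.assoc, hμ, MonObj.comp_mul, whiskerLeft_fst_assoc,
          whiskerLeft_snd_assoc, he, toUnit_unique (snd Z _) (toUnit _), ← Hom.one_def, _root_.mul_one,
          rightUnitor_hom]
      mul_assoc := by
        rw [← cancel_mono i]
        simp only [Category.assoc, hμ, MonObj.comp_mul, whiskerRight_fst_assoc, whiskerRight_snd_assoc,
          whiskerLeft_fst_assoc, whiskerLeft_snd_assoc, associator_hom_fst_assoc,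
          associator_hom_snd_fst_assoc, associator_hom_snd_snd_assoc, _root_.mul_assoc]
      left_inv := by
        rw [← cancel_mono i, Category.assoc, hμ, MonObj.comp_mul, lift_fst_assoc, lift_snd_assoc,
          Category.id_comp, hv, inv_mul_cancel, Category.assoc, he]
        rfl
      right_inv := by
        rw [← cancel_mono i, Category.assoc, hμ, MonObj.comp_mul, lift_fst_assoc, lift_snd_assoc,
          Category.id_comp, hv, mul_inv_cancel, Category.assoc, he]
        rfl }
  have himon : IsMonHom i := ⟨he, by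
    change μZ ≫ i = _
    rw [hμ, Hom.mul_def]
    congr 1
    try ext1 <;> simp⟩
  haveI : IsMonHom i := himon
  haveI : IsAffineHom c.left := inferInstance
  haveI : LocallyOfFiniteType C.hom := by rw [← Over.w c]; infer_instance
  refine ⟨Z, inst, i, himon, hi, hZ, C, hC, p, hp, haff, inferInstance, hflat, hsurj, ?_⟩
  refine ⟨⟨(hmem Z i).1 ⟨𝟙 _, Category.id_comp _⟩⟩, ⟨PullbackCone.isLimitAux' _ fun s => ?_⟩⟩
  have h1 : s.fst ≫ p = 1 := by
    rw [s.condition, toUnit_unique s.snd (toUnit _)]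
    rfl
  exact ⟨((hmem _ _).2 h1).choose, ((hmem _ _).2 h1).choose_spec, toUnit_unique _ _,
    fun {m} hm _ => (cancel_mono i).1 (hm.trans ((hmem _ _).2 h1).choose_spec.symm)⟩

end Groth.Agent.AdjRep
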