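import Groth.Agent.AdjRep.Center
import Groth.Prelude.Def_Red2

/-!
# The quotient of a connected group by its centre is affine
-/

set_option autoImplicit false

universe u

open CategoryTheory CategoryTheory.Limits MonoidalCategory CartesianMonoidalCategory MonObj GrpObj AlgebraicGeometry

namespace Groth.Agent.AdjRep

variable {k : Type u} [Field k]

theorem isAffine_quotient_by_centre (G : Over (Spec (CommRingCat.of k))) [GrpObj G]
    [LocallyOfFiniteType G.hom] [QuasiCompact G.hom] [ConnectedSpace G.left]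
    (Z : Over (Spec (CommRingCat.of k))) [GrpObj Z] (j : Z ⟶ G) (hZ : Red.IsCentre j)
    (Q : Over (Spec (CommRingCat.of k))) [GrpObj Q] [LocallyOfFiniteType Q.hom] [QuasiCompact Q.hom]
    (q : G ⟶ Q) [IsMonHom q] [Surjective q.left] [Flat q.left] (hker : AlgGrp.IsKernel j q) :
    IsAffine Q.left := by
  obtain ⟨Z₀, _, i, hi, hic, hZ₀, C, _, p, hp, hCa, hlft, hflat, hsurj, hk⟩ := exists_centre_affine_quotient G
  obtain ⟨-, hjmono, hjc⟩ := hZ
  haveI := hjmono
  haveI : Mono i.left := inferInstance
  haveI : Mono i := Over.mono_of_mono_left i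
  have hiff : ∀ (T : Over (Spec (CommRingCat.of k))) (g : T ⟶ G),
      (∃ z : T ⟶ Z, z ≫ j = g) ↔ ∃ z : T ⟶ Z₀, z ≫ i = g := by
    intro T g
    rw [hjc, hZ₀]
    simp only [Category.comp_id]
  obtain ⟨f, hf⟩ := (hiff Z₀ i).2 ⟨𝟙 _, Category.id_comp _⟩
  obtain ⟨f', hf'⟩ := (hiff Z j).1 ⟨𝟙 _, Category.id_comp _⟩
  let e : Z ≅ Z₀ :=
    { hom := f', inv := f
      hom_inv_id := by rw [← cancel_mono j, Category.assoc, hf, hf', Category.id_comp]
      inv_hom_id := by rw [← cancel_mono i, Category.assoc, hf', hf, Category.id_comp] }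
  have hk' : AlgGrp.IsKernel i q :=
    hker.of_iso e (Iso.refl _) (Iso.refl _) (Iso.refl _) (by simp [e, hf']) (toUnit_unique _ _) (by simp) (by simp)
  haveI : QuasiCompact q.left := by
    have : QuasiCompact (q.left ≫ Q.hom) := by rw [Over.w q]; infer_instance
    haveI : IsSeparated Q.hom := GrpField.isSeparated_hom Q
    exact QuasiCompact.of_comp q.left Q.hom
  haveI : QuasiCompact p.left := by
    have : QuasiCompact (p.left ≫ C.hom) := by rw [Over.w p]; infer_instance
    haveI : IsAffineHom C.hom := isAffineHom_of_isAffine C.hom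
    exact QuasiCompact.of_comp p.left C.hom
  obtain ⟨E⟩ := exists_iso_of_same_kernel i q p hk' hk
  haveI : IsIso E.hom.left := inferInstanceAs (IsIso ((Over.forget _).map E.hom))
  exact IsAffine.of_isIso E.hom.left

end Groth.Agent.AdjRep
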