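import Groth.Agent.AdjRep.Basic
import Mathlib.RingTheory.Jacobson.Artinian

/-!
# Infinitesimal neighbourhoods of a rational point in an affine chart
-/

set_option autoImplicit false

universe u

noncomputable section

open CategoryTheory CategoryTheory.Limits MonoidalCategory CartesianMonoidalCategory MonObj GrpObj AlgebraicGeometry
open scoped TensorProduct

namespace Groth.Agent.AdjRep

variable {k : Type u} [Field k] {Y : Over (Spec (CommRingCat.of k))} {V : Y.left.Opens} (hV : IsAffineOpen V)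

/-- A point with image in the chart is given by an algebra map. -/
theorem exists_chart_lift {B : Type u} [CommRing B] [Algebra k B] (b : VecGrp.pt k B ⟶ Y)
    (hb : ∀ q, b.left.base q ∈ V) :
    letI := AffHull.secAlg hV; ∃ θ : Γ(Y.left, V) →ₐ[k] B, VecGrp.ptMap θ ≫ AffHull.secPt hV = b := by
  letI := AffHull.secAlg hV
  haveI : IsOpenImmersion hV.fromSpec := hV.isOpenImmersion_fromSpec
  let w := IsOpenImmersion.lift hV.fromSpec b.left (by
    rw [hV.range_fromSpec]; rintro _ ⟨q, rfl⟩; exact hb q)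
  have hw : w ≫ hV.fromSpec = b.left := IsOpenImmersion.lift_fac _ _ _
  refine ⟨{ toRingHom := (Spec.preimage w).hom, commutes' := fun c => ?_ }, ?_⟩
  · have e : Spec.preimage (hV.fromSpec ≫ Y.hom) ≫ Spec.preimage w = CommRingCat.ofHom (algebraMap k B) := by
      apply Spec.map_injective
      rw [Spec.map_comp, Spec.map_preimage, Spec.map_preimage, reassoc_of% hw, Over.w b]
      rfl
    exact congr($(e) c)
  · exact Over.OverMorphism.ext ((congrArg (· ≫ hV.fromSpec) (Spec.map_preimage w)).trans hw)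

/-- The chart point is a monomorphism on affine points. -/
theorem chart_inj {B : Type u} [CommRing B] [Algebra k B] :
    letI := AffHull.secAlg hV; ∀ θ θ' : Γ(Y.left, V) →ₐ[k] B,
      VecGrp.ptMap θ ≫ AffHull.secPt hV = VecGrp.ptMap θ' ≫ AffHull.secPt hV → θ = θ' := by
  letI := AffHull.secAlg hV
  intro θ θ' h
  haveI : IsOpenImmersion hV.fromSpec := hV.isOpenImmersion_fromSpec
  have h1 := congrArg CommaMorphism.left h
  have h2 : Spec.map (CommRingCat.ofHom θ.toRingHom) = Spec.map (CommRingCat.ofHom θ'.toRingHom) :=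
    (cancel_mono hV.fromSpec).1 h1
  have h3 := Spec.map_injective h2
  exact AlgHom.ext fun x => congr($(h3) x)

/-- The evaluation at a rational point of the chart. -/
theorem exists_aug (y₀ : 𝟙_ (Over (Spec (CommRingCat.of k))) ⟶ Y)
    (hy : y₀.left.base (IsLocalRing.closedPoint k) ∈ V) :
    letI := AffHull.secAlg hV; ∃ φ : Γ(Y.left, V) →ₐ[k] k,
      VecGrp.ptMap φ ≫ AffHull.secPt hV = toUnit (VecGrp.pt k k) ≫ y₀ :=
  exists_chart_lift hV _ fun q => by
    change y₀.left.base _ ∈ V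
    exact (congrArg (fun z => y₀.left.base z ∈ V) (@Subsingleton.elim _
      (inferInstanceAs (Subsingleton (PrimeSpectrum k))) q (IsLocalRing.closedPoint k))).mpr hy

/-- The sections over the chart are of finite type. -/
theorem finiteType_chart [LocallyOfFiniteType Y.hom] :
    letI := AffHull.secAlg hV; Algebra.FiniteType k Γ(Y.left, V) := by
  letI := AffHull.secAlg hV
  haveI : IsOpenImmersion hV.fromSpec := hV.isOpenImmersion_fromSpec
  have h0 : LocallyOfFiniteType (hV.fromSpec ≫ Y.hom) := inferInstance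
  rw [← Spec.map_preimage (hV.fromSpec ≫ Y.hom)] at h0
  exact RingHom.finiteType_algebraMap.1 ((HasRingHomProperty.Spec_iff (P := @LocallyOfFiniteType)).1 h0)

/-- An infinitesimal neighbourhood of a rational point is finite. -/
theorem finite_quotient [LocallyOfFiniteType Y.hom] (n : ℕ) :
    letI := AffHull.secAlg hV; ∀ φ : Γ(Y.left, V) →ₐ[k] k,
      Module.Finite k (Γ(Y.left, V) ⧸ RingHom.ker φ ^ (n + 1)) := by
  letI := AffHull.secAlg hV
  intro φ
  haveI := finiteType_chart hV
  haveI : IsNoetherianRing Γ(Y.left, V) := Algebra.FiniteType.isNoetherianRing k _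
  let A := Γ(Y.left, V) ⧸ RingHom.ker φ ^ (n + 1)
  haveI : Algebra.FiniteType k A :=
    Algebra.FiniteType.of_surjective (Ideal.Quotient.mkₐ k _) (Ideal.Quotient.mkₐ_surjective k _)
  have hp : (RingHom.ker φ).IsMaximal :=
    RingHom.ker_isMaximal_of_surjective φ fun b => ⟨algebraMap k _ b, φ.commutes b⟩
  haveI : Ring.KrullDimLE 0 A := by
    refine Ring.KrullDimLE.mk₀ fun P hP => ?_
    have : P.comap (Ideal.Quotient.mk (RingHom.ker φ ^ (n + 1))) = RingHom.ker φ :=
      (hp.eq_of_le (Ideal.IsPrime.comap _).ne_top fun a ha => by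
        refine hP.mem_of_pow_mem (n + 1) ?_
        rw [← map_pow, Ideal.Quotient.eq_zero_iff_mem.mpr (Ideal.pow_mem_pow ha _)]
        exact P.zero_mem).symm
    have hm : (P.comap (Ideal.Quotient.mk (RingHom.ker φ ^ (n + 1)))).IsMaximal := by rw [this]; exact hp
    have he := Ideal.map_comap_of_surjective _ Ideal.Quotient.mk_surjective P
    rcases Ideal.map_eq_top_or_isMaximal_of_surjective (Ideal.Quotient.mk (RingHom.ker φ ^ (n + 1)))
      Ideal.Quotient.mk_surjective hm with h | h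
    · exact absurd (he.symm.trans h) hP.ne_top
    · rwa [he] at h
  haveI : IsArtinianRing A := isArtinianRing_iff_isNoetherianRing_krullDimLE_zero.2 ⟨inferInstance, inferInstance⟩
  exact (Module.finite_iff_isArtinianRing k A).2 inferInstance

/-- The infinitesimal neighbourhood. -/
def nbhd (φ : (letI := AffHull.secAlg hV; Γ(Y.left, V) →ₐ[k] k)) (n : ℕ) :
    letI := AffHull.secAlg hV; VecGrp.pt k (Γ(Y.left, V) ⧸ RingHom.ker φ ^ (n + 1)) ⟶ Y :=
  letI := AffHull.secAlg hV
  VecGrp.ptMap (Ideal.Quotient.mkₐ k _) ≫ AffHull.secPt hV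

theorem nbhd_inj (φ : (letI := AffHull.secAlg hV; Γ(Y.left, V) →ₐ[k] k)) (n : ℕ)
    {B : Type u} [CommRing B] [Algebra k B] :
    letI := AffHull.secAlg hV; ∀ θ θ' : (Γ(Y.left, V) ⧸ RingHom.ker φ ^ (n + 1)) →ₐ[k] B,
      VecGrp.ptMap θ ≫ nbhd hV φ n = VecGrp.ptMap θ' ≫ nbhd hV φ n → θ = θ' := by
  letI := AffHull.secAlg hV
  intro θ θ' h
  have key : ∀ τ : (Γ(Y.left, V) ⧸ RingHom.ker φ ^ (n + 1)) →ₐ[k] B, VecGrp.ptMap τ ≫ nbhd hV φ n =
      VecGrp.ptMap (τ.comp (Ideal.Quotient.mkₐ k _)) ≫ AffHull.secPt hV := fun τ => by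
    rw [nbhd, ← Category.assoc]
    congr 1
    exact Over.OverMorphism.ext (Spec.map_comp _ _).symm
  rw [key, key] at h
  have := chart_inj hV _ _ h
  ext x
  obtain ⟨x, rfl⟩ := Ideal.Quotient.mk_surjective x
  exact congr($(this) x)

/-- A closed subscheme containing all infinitesimal neighbourhoods contains an open neighbourhood. -/
theorem exists_open_of_nbhd [LocallyOfFiniteType Y.hom] (y₀ : 𝟙_ (Over (Spec (CommRingCat.of k))) ⟶ Y)
    (φ : (letI := AffHull.secAlg hV; Γ(Y.left, V) →ₐ[k] k))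
    (hφ : letI := AffHull.secAlg hV; VecGrp.ptMap φ ≫ AffHull.secPt hV = toUnit (VecGrp.pt k k) ≫ y₀)
    {W : Over (Spec (CommRingCat.of k))} (j : W ⟶ Y) [IsClosedImmersion j.left]
    (hj : ∀ n, ∃ w, w ≫ j = nbhd hV φ n) :
    ∃ (U : Over (Spec (CommRingCat.of k))) (i : U ⟶ Y), IsOpenImmersion i.left ∧ IsAffine U.left ∧
      (∃ e, e ≫ i = y₀) ∧ ∃ w, w ≫ j = i := by
  letI := AffHull.secAlg hV
  haveI := finiteType_chart hV
  haveI : IsNoetherianRing Γ(Y.left, V) := Algebra.FiniteType.isNoetherianRing k _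
  haveI : IsOpenImmersion hV.fromSpec := hV.isOpenImmersion_fromSpec
  let R := Γ(Y.left, V)
  let p : Ideal R := RingHom.ker φ
  haveI hp : p.IsMaximal :=
    RingHom.ker_isMaximal_of_surjective φ fun b => ⟨algebraMap k _ b, φ.commutes b⟩
  let ι₀ : Spec R ⟶ Y.left := hV.fromSpec
  obtain ⟨I, e, he⟩ := (IsClosedImmersion.Spec_iff (f := pullback.snd j.left ι₀)).mp inferInstance
  have hI : ∀ n : ℕ, I ≤ p ^ (n + 1) := by
    intro n
    obtain ⟨w, hw⟩ := hj n
    let q : R ⟶ CommRingCat.of (R ⧸ p ^ (n + 1)) := CommRingCat.ofHom (Ideal.Quotient.mk _)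
    have hw' : w.left ≫ j.left = Spec.map q ≫ ι₀ := congrArg CommaMorphism.left hw
    let l := pullback.lift (f := j.left) (g := ι₀) w.left (Spec.map q) hw'
    obtain ⟨χ, hχ⟩ := Spec.map_surjective (l ≫ e.hom : Spec (CommRingCat.of (R ⧸ p ^ (n + 1))) ⟶ Spec (CommRingCat.of (R ⧸ I)))
    have hqχ : CommRingCat.ofHom (Ideal.Quotient.mk I) ≫ χ = q := by
      refine Spec.map_injective ?_
      rw [Spec.map_comp, hχ, Category.assoc, ← he, pullback.lift_snd]
    intro a ha
    rw [← Ideal.Quotient.eq_zero_iff_mem]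
    have := congrArg (fun m => m.hom a) hqχ
    change χ.hom (Ideal.Quotient.mk I a) = Ideal.Quotient.mk _ a at this
    rw [← this, Ideal.Quotient.eq_zero_iff_mem.mpr ha, map_zero]
  obtain ⟨s, hs, hsI⟩ : ∃ s ∉ p, ∀ a ∈ I, s * a = 0 := by
    let Rp := Localization.AtPrime p
    have hz : ∀ a ∈ I, algebraMap R Rp a = 0 := by
      intro a ha
      rw [← Ideal.mem_bot, ← Ideal.iInf_pow_eq_bot_of_isLocalRing (IsLocalRing.maximalIdeal Rp) (IsLocalRing.maximalIdeal.isMaximal Rp).ne_top, Ideal.mem_iInf]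
      intro n
      rw [← Localization.AtPrime.map_eq_maximalIdeal, ← Ideal.map_pow]
      exact Ideal.mem_map_of_mem _ (Ideal.pow_le_pow_right n.le_succ (hI n ha))
    classical
    obtain ⟨G, hG⟩ := IsNoetherian.noetherian (R := R) (M := R) I
    have hex : ∀ a ∈ G, ∃ m : p.primeCompl, (m : R) * a = 0 := fun a ha =>
      (IsLocalization.map_eq_zero_iff p.primeCompl Rp a).1 (hz a (hG ▸ Submodule.subset_span ha))
    choose m hm using hex
    refine ⟨∏ a ∈ G.attach, (m a.1 a.2 : R), (prod_mem fun a _ => (m a.1 a.2).2 : _ ∈ p.primeCompl), fun a ha => ?_⟩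
    rw [← hG] at ha
    induction ha using Submodule.span_induction with
    | mem x hx =>
      rw [Finset.prod_eq_mul_prod_sdiff_singleton_of_mem (Finset.mem_attach G ⟨x, hx⟩), mul_comm (m x hx : R),
        _root_.mul_assoc, hm x hx, mul_zero]
    | zero => rw [mul_zero]
    | add x y _ _ hx hy => rw [mul_add, hx, hy, add_zero]
    | smul r x _ hx => rw [smul_eq_mul, mul_left_comm, hx, mul_zero]
  let r : R →ₐ[k] Localization.Away s := IsScalarTower.toAlgHom k R _
  haveI : IsOpenImmersion (Spec.map (CommRingCat.ofHom r.toRingHom)) := IsOpenImmersion.of_isLocalization s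
  let i : VecGrp.pt k (Localization.Away s) ⟶ Y := VecGrp.ptMap r ≫ AffHull.secPt hV
  have hu : IsUnit (φ s) := isUnit_iff_ne_zero.mpr fun h0 => hs (RingHom.mem_ker.mpr h0)
  let ψ : Localization.Away s →ₐ[k] k :=
    { toRingHom := IsLocalization.Away.lift (g := φ.toRingHom) s hu
      commutes' := fun c => (IsLocalization.Away.lift_eq (g := φ.toRingHom) s hu (algebraMap k R c)).trans (φ.commutes c) }
  have hψ : ψ.comp r = φ := AlgHom.ext fun a => IsLocalization.Away.lift_eq (g := φ.toRingHom) s hu a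
  refine ⟨_, i, inferInstanceAs (IsOpenImmersion (Spec.map (CommRingCat.ofHom r.toRingHom) ≫ hV.fromSpec)),
    inferInstanceAs (IsAffine (Spec _)), ?_, ?_⟩
  · let b : 𝟙_ (Over (Spec (CommRingCat.of k))) ⟶ VecGrp.pt k k :=
      Over.homMk (𝟙 _) (by change 𝟙 _ ≫ Spec.map (𝟙 _) = _; rw [Spec.map_id]; rfl)
    refine ⟨b ≫ VecGrp.ptMap ψ, ?_⟩
    have : VecGrp.ptMap ψ ≫ VecGrp.ptMap r = VecGrp.ptMap φ :=
      Over.OverMorphism.ext ((Spec.map_comp _ _).symm.trans (by rw [← hψ]; rfl))
    simp only [i, Category.assoc]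
    rw [reassoc_of% this, hφ, ← Category.assoc, toUnit_unique (b ≫ toUnit _) (𝟙 _), Category.id_comp]
  · have hkill : ∀ a ∈ I, r a = 0 := fun a ha =>
      (IsLocalization.map_eq_zero_iff (Submonoid.powers s) _ a).2 ⟨⟨s, Submonoid.mem_powers s⟩, hsI a ha⟩
    let χ : CommRingCat.of (R ⧸ I) ⟶ CommRingCat.of (Localization.Away s) :=
      CommRingCat.ofHom (Ideal.Quotient.lift I r.toRingHom hkill)
    have hχ : CommRingCat.ofHom (Ideal.Quotient.mk I) ≫ χ = CommRingCat.ofHom r.toRingHom := by ext; rfl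
    have key : (Spec.map χ ≫ e.inv ≫ pullback.fst j.left ι₀) ≫ j.left = i.left := by
      have he' : e.inv ≫ pullback.snd j.left ι₀ = Spec.map (CommRingCat.ofHom (Ideal.Quotient.mk I)) := by
        rw [he, Iso.inv_hom_id_assoc]
      simp only [Category.assoc, pullback.condition]
      rw [reassoc_of% he', ← Category.assoc, ← Spec.map_comp, hχ]
      rfl
    refine ⟨Over.homMk (Spec.map χ ≫ e.inv ≫ pullback.fst j.left ι₀) ?_, Over.OverMorphism.ext key⟩
    rw [← Over.w j, ← Category.assoc, key]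
    exact Over.w i

end Groth.Agent.AdjRep
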