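import Groth.Agent.AdjRep.Chart
import Groth.Agent.AdjRep.ToGL
import Groth.Agent.GrpField.LimImage

/-!
# The adjoint representation on an infinitesimal neighbourhood of the unit
-/

set_option autoImplicit false

universe u

noncomputable section

open CategoryTheory CategoryTheory.Limits MonoidalCategory CartesianMonoidalCategory MonObj GrpObj AlgebraicGeometry
open scoped TensorProduct

namespace Groth.Agent.AdjRep

variable {k : Type u} [Field k]

theorem ptMap_comp {B B' B'' : Type u} [CommRing B] [Algebra k B] [CommRing B'] [Algebra k B'] [CommRing B'']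
    [Algebra k B''] (f : B →ₐ[k] B') (g : B' →ₐ[k] B'') :
    VecGrp.ptMap g ≫ VecGrp.ptMap f = VecGrp.ptMap (g.comp f) :=
  Over.OverMorphism.ext (Spec.map_comp _ _).symm

theorem ptMap_id {B : Type u} [CommRing B] [Algebra k B] : VecGrp.ptMap (AlgHom.id k B) = 𝟙 _ :=
  Over.OverMorphism.ext (Spec.map_id _)

variable {G : Over (Spec (CommRingCat.of k))} [GrpObj G] {V : G.left.Opens} (hV : IsAffineOpen V)
  (hy : (η[G] : 𝟙_ (Over (Spec (CommRingCat.of k))) ⟶ G).left.base (IsLocalRing.closedPoint k) ∈ V)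

include hy in
/-- Conjugation of the infinitesimal neighbourhood by a point. -/
theorem exists_conj (φ : (letI := AffHull.secAlg hV; Γ(G.left, V) →ₐ[k] k))
    (hφ : letI := AffHull.secAlg hV;
      VecGrp.ptMap φ ≫ AffHull.secPt hV = toUnit (VecGrp.pt k k) ≫ η[G]) (n : ℕ)
    (B : Type u) [CommRing B] [Algebra k B] :
    letI := AffHull.secAlg hV; ∀ g : VecGrp.pt k B ⟶ G,
      ∃ θ : (Γ(G.left, V) ⧸ RingHom.ker φ ^ (n + 1)) →ₐ[k] B ⊗[k] (Γ(G.left, V) ⧸ RingHom.ker φ ^ (n + 1)),
        VecGrp.ptMap θ ≫ nbhd hV φ n =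
          (VecGrp.ptMap Algebra.TensorProduct.includeLeft ≫ g)⁻¹ *
            (VecGrp.ptMap Algebra.TensorProduct.includeRight ≫ nbhd hV φ n) *
            (VecGrp.ptMap Algebra.TensorProduct.includeLeft ≫ g) := by
  letI := AffHull.secAlg hV
  intro g
  let p : Ideal Γ(G.left, V) := RingHom.ker φ
  let A := Γ(G.left, V) ⧸ p ^ (n + 1)
  have hle : p ^ (n + 1) ≤ p := Ideal.pow_le_self n.succ_ne_zero
  let aug : A →ₐ[k] k := Ideal.Quotient.liftₐ _ φ fun a ha => RingHom.mem_ker.mp (hle ha)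
  have haug : ∀ a, aug (Ideal.Quotient.mk _ a) = φ a := fun a => rfl
  let L : B →ₐ[k] B ⊗[k] A := Algebra.TensorProduct.includeLeft
  let Rr : A →ₐ[k] B ⊗[k] A := Algebra.TensorProduct.includeRight
  let π : B ⊗[k] A →ₐ[k] B := Algebra.TensorProduct.lift (AlgHom.id k B) ((Algebra.ofId k B).comp aug)
    fun _ _ => Commute.all _ _
  have hπL : π.comp L = AlgHom.id k B := AlgHom.ext fun b => by simp [π, L]
  have hπR : π.comp Rr = (Algebra.ofId k B).comp aug := AlgHom.ext fun a => by simp [π, Rr]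
  let J : Ideal (B ⊗[k] A) := (RingHom.ker aug).map Rr
  have hker : ∀ z, z - L (π z) ∈ J := by
    intro z
    induction z using TensorProduct.induction_on with
    | zero => simp
    | tmul b a =>
      have h : b ⊗ₜ[k] a - L (π (b ⊗ₜ a)) = L b * Rr (a - algebraMap k A (aug a)) := by
        rw [map_sub, mul_sub, AlgHom.commutes, ← L.commutes, ← map_mul]
        simp [π, L, Rr, mul_comm b]
      rw [h]
      exact Ideal.mul_mem_left _ _ (Ideal.mem_map_of_mem _ (by simp [RingHom.mem_ker]))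
    | add x y hx hy => simpa [map_add, add_sub_add_comm] using J.add_mem hx hy
  have hJ : J ^ (n + 1) = ⊥ := by
    have h : RingHom.ker aug ≤ p.map (Ideal.Quotient.mk _) := by
      intro a ha
      obtain ⟨a, rfl⟩ := Ideal.Quotient.mk_surjective a
      exact Ideal.mem_map_of_mem _ ha
    have h2 : RingHom.ker aug ^ (n + 1) = ⊥ := le_bot_iff.1 ((Ideal.pow_right_mono h _).trans (by
      rw [← Ideal.map_pow, Ideal.map_quotient_self]))
    rw [← Ideal.map_pow, h2, Ideal.map_bot]
  have hnil : RingHom.ker π ≤ J := fun z hz => by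
    have := hker z
    rwa [show π z = 0 from hz, map_zero, sub_zero] at this
  let h : VecGrp.pt k (B ⊗[k] A) ⟶ G :=
    (VecGrp.ptMap L ≫ g)⁻¹ * (VecGrp.ptMap Rr ≫ nbhd hV φ n) * (VecGrp.ptMap L ≫ g)
  have hπh : VecGrp.ptMap π ≫ h = 1 := by
    have h1 : VecGrp.ptMap π ≫ VecGrp.ptMap Rr ≫ nbhd hV φ n = 1 := by
      rw [← Category.assoc, ptMap_comp, hπR, nbhd, ← Category.assoc, ptMap_comp,
        show ((Algebra.ofId k B).comp aug).comp (Ideal.Quotient.mkₐ k _) = (Algebra.ofId k B).comp φ from rfl,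
        ← ptMap_comp, Category.assoc, hφ, ← Category.assoc, Hom.one_def, toUnit_unique (_ ≫ toUnit _)]
    simp only [h, MonObj.comp_mul, GrpObj.comp_inv, h1, _root_.mul_one]
    exact inv_mul_cancel _
  have hpts : ∀ q, h.left.base q ∈ V := by
    intro q
    have hq : q ∈ Set.range (PrimeSpectrum.comap π.toRingHom) := by
      rw [range_comap_of_surjective _ π.toRingHom fun b => ⟨L b, congr($(hπL) b)⟩]
      intro z hz
      refine q.isPrime.mem_of_pow_mem (n + 1) ?_
      have : z ^ (n + 1) ∈ J ^ (n + 1) := Ideal.pow_mem_pow (hnil hz) _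
      rw [hJ, Ideal.mem_bot] at this
      rw [this]
      exact q.asIdeal.zero_mem
    obtain ⟨q', rfl⟩ := hq
    have h2 : h.left.base ((VecGrp.ptMap π).left.base q') = (η[G] : 𝟙_ _ ⟶ G).left.base ((toUnit (VecGrp.pt k B)).left.base q') := by
      exact congrArg (fun m : VecGrp.pt k B ⟶ G => m.left.base q') (hπh.trans (Hom.one_def ..))
    refine (congrArg (· ∈ V) h2).mpr ?_
    exact (congrArg (fun z => (η[G] : 𝟙_ _ ⟶ G).left.base z ∈ V) (@Subsingleton.elim _
      (inferInstanceAs (Subsingleton (PrimeSpectrum k))) _ (IsLocalRing.closedPoint k))).mpr hy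
  obtain ⟨θ₀, hθ₀⟩ := exists_chart_lift hV h hpts
  have hπθ : π.comp θ₀ = (Algebra.ofId k B).comp φ := by
    refine chart_inj hV _ _ ?_
    rw [← ptMap_comp, Category.assoc, hθ₀, hπh, ← ptMap_comp, Category.assoc, hφ, ← Category.assoc,
      Hom.one_def, toUnit_unique (_ ≫ toUnit _)]
  have hkill : ∀ a ∈ p ^ (n + 1), θ₀ a = 0 := by
    have : p.map θ₀ ≤ J := Ideal.map_le_iff_le_comap.2 fun a ha => hnil (by
      have := congr($(hπθ) a)
      simp only [AlgHom.comp_apply] at this
      change π (θ₀ a) = 0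
      rw [this, show φ a = 0 from ha, map_zero])
    intro a ha
    have h2 : θ₀ a ∈ (p ^ (n + 1)).map θ₀ := Ideal.mem_map_of_mem _ ha
    rw [Ideal.map_pow] at h2
    have h3 := Ideal.pow_right_mono this _ h2
    rwa [hJ, Ideal.mem_bot] at h3
  refine ⟨Ideal.Quotient.liftₐ _ θ₀ hkill, ?_⟩
  rw [nbhd, ← Category.assoc, ptMap_comp,
    show (Ideal.Quotient.liftₐ _ θ₀ hkill).comp (Ideal.Quotient.mkₐ k _) = θ₀ from AlgHom.ext fun _ => rfl]
  exact hθ₀

omit [GrpObj G] in
theorem comp_ptMap {B B' B'' : Type u} [CommRing B] [Algebra k B] [CommRing B'] [Algebra k B'] [CommRing B'']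
    [Algebra k B''] (f : B →ₐ[k] B') (g : B' →ₐ[k] B'') (q : VecGrp.pt k B ⟶ G) :
    VecGrp.ptMap g ≫ VecGrp.ptMap f ≫ q = VecGrp.ptMap (g.comp f) ≫ q := by
  rw [← Category.assoc, ptMap_comp]

section Generic

variable {A : Type u} [CommRing A] [Algebra k A] (t : VecGrp.pt k A ⟶ G)

/-- the constant point -/
abbrev lPt {B : Type u} [CommRing B] [Algebra k B] (g : VecGrp.pt k B ⟶ G) : VecGrp.pt k (B ⊗[k] A) ⟶ G :=
  VecGrp.ptMap (Algebra.TensorProduct.includeLeft (R := k) (S := k) (A := B) (B := A)) ≫ g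

/-- the generic point -/
abbrev rPt (B : Type u) [CommRing B] [Algebra k B] : VecGrp.pt k (B ⊗[k] A) ⟶ G :=
  VecGrp.ptMap (Algebra.TensorProduct.includeRight (R := k) (A := B) (B := A)) ≫ t

/-- A family of conjugation maps on a finite subscheme gives a module structure. -/
theorem exists_gmod_of_conj
    (hinj : ∀ {C : Type u} [CommRing C] [Algebra k C] (θ θ' : A →ₐ[k] C),
      VecGrp.ptMap θ ≫ t = VecGrp.ptMap θ' ≫ t → θ = θ')
    (hex : ∀ (B : Type u) [CommRing B] [Algebra k B] (g : VecGrp.pt k B ⟶ G), ∃ θ : A →ₐ[k] B ⊗[k] A,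
      VecGrp.ptMap θ ≫ t = (lPt g)⁻¹ * rPt t B * lPt g) :
    ∃ m : VecGrp.GMod G A, ∀ (B : Type u) [CommRing B] [Algebra k B] (g : VecGrp.pt k B ⟶ G),
      m.ρ B g = 1 ↔ lPt g * rPt t B = rPt t B * lPt g := by
  choose θ hθ using hex
  let Θ : ∀ (B : Type u) [CommRing B] [Algebra k B], (VecGrp.pt k B ⟶ G) → (B ⊗[k] A →ₐ[B] B ⊗[k] A) :=
    fun B _ _ g => Algebra.TensorProduct.lift (Algebra.ofId B _) (θ B g) fun _ _ => Commute.all _ _
  have hΘL : ∀ (B : Type u) [CommRing B] [Algebra k B] (g : VecGrp.pt k B ⟶ G),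
      ((Θ B g).restrictScalars k).comp Algebra.TensorProduct.includeLeft =
        (Algebra.TensorProduct.includeLeft : B →ₐ[k] B ⊗[k] A) := fun B _ _ g => AlgHom.ext fun b => by
    simp [Θ]
  have hΘR : ∀ (B : Type u) [CommRing B] [Algebra k B] (g : VecGrp.pt k B ⟶ G),
      ((Θ B g).restrictScalars k).comp Algebra.TensorProduct.includeRight = θ B g := fun B _ _ g =>
    AlgHom.ext fun b => by simp [Θ]
  have ext' : ∀ (B : Type u) [CommRing B] [Algebra k B] (f f' : B ⊗[k] A →ₐ[B] B ⊗[k] A),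
      VecGrp.ptMap ((f.restrictScalars k).comp Algebra.TensorProduct.includeRight) ≫ t =
        VecGrp.ptMap ((f'.restrictScalars k).comp Algebra.TensorProduct.includeRight) ≫ t → f = f' :=
    fun B _ _ f f' hff => Algebra.TensorProduct.ext (by ext) (hinj _ _ hff)
  have hΘone : ∀ (B : Type u) [CommRing B] [Algebra k B], Θ B 1 = AlgHom.id B _ := by
    intro B _ _
    refine ext' B _ _ ?_
    rw [hΘR, hθ, lPt, MonObj.comp_one, inv_one, _root_.one_mul, _root_.mul_one]
    rfl
  have hΘmul : ∀ (B : Type u) [CommRing B] [Algebra k B] (g h : VecGrp.pt k B ⟶ G),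
      Θ B (g * h) = (Θ B g).comp (Θ B h) := by
    intro B _ _ g h
    refine ext' B _ _ ?_
    have e1 : (((Θ B g).comp (Θ B h)).restrictScalars k).comp Algebra.TensorProduct.includeRight =
        ((Θ B g).restrictScalars k).comp (θ B h) := by
      rw [← hΘR B h]; rfl
    have e2 : ∀ q : VecGrp.pt k B ⟶ G, VecGrp.ptMap ((Θ B g).restrictScalars k) ≫ lPt (A := A) q = lPt q := fun q => by
      rw [lPt, comp_ptMap, hΘL]
    have e3 : VecGrp.ptMap ((Θ B g).restrictScalars k) ≫ rPt t B = (lPt g)⁻¹ * rPt t B * lPt g := by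
      rw [rPt, comp_ptMap, hΘR, hθ]
    rw [hΘR, hθ, e1, ← comp_ptMap, hθ]
    simp only [MonObj.comp_mul, GrpObj.comp_inv]
    rw [e2, e3]
    simp only [lPt, MonObj.comp_mul, _root_.mul_inv_rev, _root_.mul_assoc]
  let ρ : ∀ (B : Type u) [CommRing B] [Algebra k B],
      (VecGrp.pt k B ⟶ G) →* (VecGrp.W k A B ≃ₗ[B] VecGrp.W k A B) := fun B _ _ =>
    { toFun := fun g =>
        { (Θ B g).toLinearMap with
          invFun := Θ B g⁻¹
          left_inv := fun x => by
            change Θ B g⁻¹ (Θ B g x) = x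
            rw [← AlgHom.comp_apply, ← hΘmul, inv_mul_cancel, hΘone]; rfl
          right_inv := fun x => by
            change Θ B g (Θ B g⁻¹ x) = x
            rw [← AlgHom.comp_apply, ← hΘmul, mul_inv_cancel, hΘone]; rfl }
      map_one' := LinearEquiv.ext fun x => by
        change Θ B 1 x = x
        rw [hΘone]; rfl
      map_mul' := fun g h => LinearEquiv.ext fun x => by
        change Θ B (g * h) x = Θ B g (Θ B h x)
        rw [hΘmul]; rfl }
  have nat : ∀ {B B' : Type u} [CommRing B] [Algebra k B] [CommRing B'] [Algebra k B'] (ψ : B →ₐ[k] B')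
      (g : VecGrp.pt k B ⟶ G) (x : VecGrp.W k A B),
      VecGrp.Wmap ψ (ρ B g x) = ρ B' (VecGrp.ptMap ψ ≫ g) (VecGrp.Wmap ψ x) := by
    intro B B' _ _ _ _ ψ g x
    let M : B ⊗[k] A →ₐ[k] B' ⊗[k] A := Algebra.TensorProduct.map ψ (AlgHom.id k A)
    have hM : ∀ y, VecGrp.Wmap (M := A) ψ y = M y := by
      intro y
      induction y using TensorProduct.induction_on with
      | zero => simp
      | tmul b a => simp [VecGrp.Wmap_tmul, M]
      | add x y hx hy => simp only [map_add, hx, hy]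
    have hML : M.comp Algebra.TensorProduct.includeLeft = (Algebra.TensorProduct.includeLeft).comp ψ :=
      AlgHom.ext fun b => by simp [M]
    have hMR : M.comp Algebra.TensorProduct.includeRight = Algebra.TensorProduct.includeRight :=
      AlgHom.ext fun a => by simp [M]
    have hnat : M.comp (θ B g) = θ B' (VecGrp.ptMap ψ ≫ g) := by
      refine hinj _ _ ?_
      rw [← comp_ptMap, hθ, hθ]
      simp only [MonObj.comp_mul, GrpObj.comp_inv, lPt, rPt, comp_ptMap, hML, hMR]
    change VecGrp.Wmap ψ (Θ B g x) = Θ B' (VecGrp.ptMap ψ ≫ g) (VecGrp.Wmap ψ x)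
    rw [hM, hM]
    induction x using TensorProduct.induction_on with
    | zero => simp
    | tmul b a =>
      have := congr($(hnat) a)
      simp only [AlgHom.comp_apply] at this
      simp [Θ, M, ← this]
    | add x y hx hy => simp only [map_add, hx, hy]
  refine ⟨⟨ρ, nat⟩, fun B _ _ g => ⟨fun h => ?_, fun h => ?_⟩⟩
  · have hid : Θ B g = AlgHom.id B _ := AlgHom.ext fun x => congr($h x)
    have h2 := hθ B g
    rw [← hΘR, hid] at h2
    change rPt t B = _ at h2
    rw [_root_.mul_assoc, eq_inv_mul_iff_mul_eq] at h2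
    exact h2
  · have hid : Θ B g = AlgHom.id B _ := ext' B _ _ (by
      rw [hΘR, hθ, _root_.mul_assoc, ← h, inv_mul_cancel_left]; rfl)
    exact LinearEquiv.ext fun x => congr($hid x)

end Generic

include hy in
/-- The adjoint action on an infinitesimal neighbourhood, with its kernel. -/
theorem exists_gmod (φ : (letI := AffHull.secAlg hV; Γ(G.left, V) →ₐ[k] k))
    (hφ : letI := AffHull.secAlg hV;
      VecGrp.ptMap φ ≫ AffHull.secPt hV = toUnit (VecGrp.pt k k) ≫ η[G]) (n : ℕ) :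
    letI := AffHull.secAlg hV;
    ∃ m : VecGrp.GMod G (Γ(G.left, V) ⧸ RingHom.ker φ ^ (n + 1)),
      ∀ (B : Type u) [CommRing B] [Algebra k B] (g : VecGrp.pt k B ⟶ G), m.ρ B g = 1 ↔
        lPt g * rPt (nbhd hV φ n) B = rPt (nbhd hV φ n) B * lPt g := by
  letI := AffHull.secAlg hV
  exact exists_gmod_of_conj (nbhd hV φ n) (fun θ θ' h => nbhd_inj hV φ n θ θ' h)
    (fun B _ _ g => exists_conj hV hy φ hφ n B g)

end Groth.Agent.AdjRep
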