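import Groth.Agent.AdjRep.RepQuot
import Groth.Agent.FpqcDescent.Affine

/-!
# A group is affine if a linear representation of it has affine kernel
-/

set_option autoImplicit false

universe u

open CategoryTheory CategoryTheory.Limits MonoidalCategory CartesianMonoidalCategory MonObj GrpObj AlgebraicGeometry

namespace Groth.Agent.AdjRep

variable {k : Type u} [Field k]

/-- An algebraic group with a representation whose kernel is affine is affine. -/
theorem isAffine_of_affine_kernel (H : Over (Spec (CommRingCat.of k))) [GrpObj H]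
    [LocallyOfFiniteType H.hom] [QuasiCompact H.hom] (m : ℕ) (u : H ⟶ GLSpec k m) [IsMonHom u]
    (N : Over (Spec (CommRingCat.of k))) (n : N ⟶ H) [Mono n]
    (hN : ∀ (T : Over (Spec (CommRingCat.of k))) (g : T ⟶ H), (∃ w : T ⟶ N, w ≫ n = g) ↔ g ≫ u = 1)
    [IsAffine N.left] : IsAffine H.left := by
  obtain ⟨C, hC, p, c, hp, hc, hpc, hsurj, hflat, hcl, haff, -⟩ :=
    GrpField.AffImage.exists_factor_affine (G' := GLSpec k m) u
  haveI : Mono c.left := inferInstance
  haveI : Mono c := Over.mono_of_mono_left c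
  have hmem : ∀ (T : Over (Spec (CommRingCat.of k))) (g : T ⟶ H), (∃ w : T ⟶ N, w ≫ n = g) ↔ g ≫ p = 1 := by
    intro T g
    rw [hN, ← hpc, ← Category.assoc]
    constructor
    · intro h; rw [← cancel_mono c, h, MonObj.one_comp]
    · intro h; rw [h, MonObj.one_comp]
  have hn : n ≫ p = 1 := (hmem N n).1 ⟨𝟙 _, Category.id_comp _⟩
  have hsq : IsPullback (fst H N) (fst H N * (snd H N ≫ n)) p p := by
    refine ⟨⟨?_⟩, ⟨PullbackCone.isLimitAux' _ fun s => ?_⟩⟩
    · rw [MonObj.mul_comp, Category.assoc, hn, MonObj.comp_one, _root_.mul_one]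
    · have h1 : (s.fst⁻¹ * s.snd) ≫ p = 1 := by
        rw [MonObj.mul_comp, GrpObj.inv_comp, s.condition, inv_mul_cancel]
      refine ⟨lift s.fst ((hmem _ _).2 h1).choose, lift_fst _ _, ?_, fun {l : s.pt ⟶ H ⊗ N} hl1 hl2 => ?_⟩
      · have hw := ((hmem _ _).2 h1).choose_spec
        change lift s.fst _ ≫ (fst H N * (snd H N ≫ n)) = s.snd
        rw [MonObj.comp_mul, lift_fst, lift_snd_assoc, hw, mul_inv_cancel_left]
      · change l ≫ fst H N = s.fst at hl1
        change l ≫ (fst H N * (snd H N ≫ n)) = s.snd at hl2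
        have hw := ((hmem _ _).2 h1).choose_spec
        refine CartesianMonoidalCategory.hom_ext _ _ (by rw [lift_fst, hl1]) ?_
        rw [← cancel_mono n, lift_snd, hw, ← hl2, MonObj.comp_mul, hl1, inv_mul_cancel_left,
          Category.assoc]
  have hsq' := hsq.map (Over.forget _)
  haveI : IsAffineHom N.hom := isAffineHom_of_isAffine N.hom
  have hfst : IsAffineHom (fst H N).left :=
    MorphismProperty.of_isPullback (P := @IsAffineHom) (IsPullback.of_hasPullback H.hom N.hom).flip inferInstance
  haveI : IsAffineHom C.hom := isAffineHom_of_isAffine C.hom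
  haveI := quasiCompact_left_of_over p
  haveI : IsAffineHom p.left :=
    MorphismProperty.of_isPullback_of_descendsAlong (P := @IsAffineHom)
      (Q := (@Surjective ⊓ @Flat ⊓ @QuasiCompact : MorphismProperty Scheme.{u}))
      hsq' ⟨⟨hsurj, hflat⟩, (inferInstance : QuasiCompact p.left)⟩ hfst
  exact isAffine_of_isAffineHom p.left

end Groth.Agent.AdjRep
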