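import Groth.Agent.GrpField.QAAffine
import Groth.Agent.GrpField.SchDomFlat
import Groth.Prelude.Def_AlgGrp
import Mathlib.CategoryTheory.Monoidal.Cartesian.Over

/-!
# The kernel of a homomorphism as a group object
-/

set_option autoImplicit false

universe u

noncomputable section

open CategoryTheory CategoryTheory.Limits MonoidalCategory CartesianMonoidalCategory MonObj GrpObj AlgebraicGeometry

namespace Groth.Agent.AdjRep

variable {k : Type u} [Field k]

/-- The kernel of a homomorphism to a separated group is a closed normal subgroup. -/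
theorem exists_kernel {G Q : Over (Spec (CommRingCat.of k))} [GrpObj G] [GrpObj Q] (q : G ⟶ Q) [IsMonHom q]
    [LocallyOfFiniteType Q.hom] :
    ∃ (N : Over (Spec (CommRingCat.of k))) (_ : GrpObj N) (i : N ⟶ G), IsMonHom i ∧ IsClosedImmersion i.left ∧
      AlgGrp.IsNormalHom i ∧ AlgGrp.IsKernel i q := by
  haveI := GrpField.isClosedImmersion_eta Q
  let N : Over (Spec (CommRingCat.of k)) := Over.mk (pullback.fst q.left η[Q].left ≫ G.hom)
  let i : N ⟶ G := Over.homMk (pullback.fst q.left η[Q].left)
  haveI : IsClosedImmersion i.left := inferInstanceAs (IsClosedImmersion (pullback.fst q.left η[Q].left))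
  haveI : Mono i.left := inferInstance
  haveI : Mono i := Over.mono_of_mono_left i
  have hmem : ∀ (T : Over (Spec (CommRingCat.of k))) (g : T ⟶ G), (∃ z : T ⟶ N, z ≫ i = g) ↔ g ≫ q = 1 := by
    intro T g
    constructor
    · rintro ⟨z, rfl⟩
      rw [Hom.one_def, Category.assoc, ← toUnit_unique (z ≫ toUnit N) (toUnit T), Category.assoc]
      congr 1
      ext1
      rw [Over.comp_left, Over.comp_left, Over.toUnit_left]
      change pullback.fst q.left η[Q].left ≫ q.left = (pullback.fst q.left η[Q].left ≫ G.hom) ≫ η[Q].left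
      rw [pullback.condition]
      congr 1
      have h := Over.w q
      have hη := Over.w η[Q]
      rw [← h, ← Category.assoc, pullback.condition, Category.assoc, hη]
      exact (Category.comp_id _).symm
    · intro hg
      rw [Hom.one_def] at hg
      have h := congrArg CommaMorphism.left hg
      refine ⟨Over.homMk (pullback.lift g.left (toUnit T).left h) ?_, ?_⟩
      · change pullback.lift _ _ _ ≫ pullback.fst _ _ ≫ G.hom = _
        rw [pullback.lift_fst_assoc, Over.w g]
      · ext1
        exact pullback.lift_fst _ _ _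
  have hiq : i ≫ q = 1 := (hmem N i).1 ⟨𝟙 _, Category.id_comp _⟩
  obtain ⟨μN, hμ⟩ : ∃ z, z ≫ i = (fst N N ≫ i) * (snd N N ≫ i) := (hmem _ _).2 (by
    rw [MonObj.mul_comp, Category.assoc, Category.assoc, hiq, MonObj.comp_one, MonObj.comp_one, _root_.one_mul])
  obtain ⟨eN, he⟩ := (hmem (𝟙_ _) η[G]).2
    ((IsMonHom.one_hom (f := q)).trans (by rw [Hom.one_def, toUnit_unit, Category.id_comp]))
  obtain ⟨vN, hv⟩ : ∃ z, z ≫ i = i⁻¹ := (hmem _ _).2 (by rw [GrpObj.inv_comp, hiq, inv_one])
  letI inst : GrpObj N :=
    { one := eN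
      mul := μN
      inv := vN
      one_mul := by
        rw [← cancel_mono i, Category.assoc, hμ, MonObj.comp_mul, whiskerRight_fst_assoc, he,
          whiskerRight_snd_assoc, toUnit_unique (fst _ N) (toUnit _), ← Hom.one_def, _root_.one_mul,
          leftUnitor_hom]
      mul_one := by
        rw [← cancel_mono i, Category.assoc, hμ, MonObj.comp_mul, whiskerLeft_fst_assoc,
          whiskerLeft_snd_assoc, he, toUnit_unique (snd N _) (toUnit _), ← Hom.one_def, _root_.mul_one,
          rightUnitor_hom]
      mul_assoc := by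
        rw [← cancel_mono i]
        simp only [Category.assoc, hμ, MonObj.comp_mul, whiskerRight_fst_assoc, whiskerRight_snd_assoc,
          whiskerLeft_fst_assoc, whiskerLeft_snd_assoc, associator_hom_fst_assoc,
          associator_hom_snd_fst_assoc, associator_hom_snd_snd_assoc, _root_.mul_assoc]
      left_inv := by
        rw [← cancel_mono i, Category.assoc, hμ, MonObj.comp_mul, lift_fst_assoc, lift_snd_assoc,
          Category.id_comp, hv, inv_mul_cancel, Category.assoc, he]
        rfl
      right_inv := by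
        rw [← cancel_mono i, Category.assoc, hμ, MonObj.comp_mul, lift_fst_assoc, lift_snd_assoc,
          Category.id_comp, hv, mul_inv_cancel, Category.assoc, he]
        rfl }
  have himon : IsMonHom i := ⟨he, by
    change μN ≫ i = _
    rw [hμ, Hom.mul_def]
    congr 1
    try ext1 <;> simp⟩
  refine ⟨N, inst, i, himon, inferInstance, fun T g n => ?_, ⟨⟨hiq⟩, ⟨PullbackCone.isLimitAux' _ fun s => ?_⟩⟩⟩
  · obtain ⟨n', hn'⟩ := (hmem T (g * (n ≫ i) * g⁻¹)).2 (by
      rw [MonObj.mul_comp, MonObj.mul_comp, GrpObj.inv_comp, (hmem T (n ≫ i)).1 ⟨n, rfl⟩, _root_.mul_one,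
        mul_inv_cancel])
    exact ⟨n', hn'.symm⟩
  · have h1 : s.fst ≫ q = 1 := by
      rw [s.condition, toUnit_unique s.snd (toUnit _)]
      rfl
    exact ⟨((hmem _ _).2 h1).choose, ((hmem _ _).2 h1).choose_spec, toUnit_unique _ _,
      fun {m} hm _ => (cancel_mono i).1 (hm.trans ((hmem _ _).2 h1).choose_spec.symm)⟩

end Groth.Agent.AdjRep
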