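import Groth.Agent.AdjRep.KerAffine

/-!
# Faithful locally finite modules make a group affine
-/

set_option autoImplicit false

universe u

noncomputable section

open CategoryTheory CategoryTheory.Limits MonoidalCategory CartesianMonoidalCategory MonObj GrpObj AlgebraicGeometry
open scoped TensorProduct

namespace Groth.Agent.AdjRep

variable {k : Type u} [Field k] {G : Over (Spec (CommRingCat.of k))} [GrpObj G]
  {M : Type u} [AddCommGroup M] [Module k M] (m : VecGrp.GMod G M)

/-- A subspace stable under all points. -/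
def IsStableSub (N : Submodule k M) : Prop :=
  ∀ (B : Type u) [CommRing B] [Algebra k B] (g : VecGrp.pt k B ⟶ G) (x : VecGrp.W k M B),
    x ∈ Submodule.baseChange B N → m.ρ B g x ∈ Submodule.baseChange B N

variable {m}

theorem isStableSub_sup {N₁ N₂ : Submodule k M} (h₁ : IsStableSub m N₁) (h₂ : IsStableSub m N₂) :
    IsStableSub m (N₁ ⊔ N₂) := by
  intro B _ _ g x hx
  have mono : ∀ {N : Submodule k M}, N ≤ N₁ ⊔ N₂ → ∀ y, y ∈ Submodule.baseChange B N →
      y ∈ Submodule.baseChange B (N₁ ⊔ N₂) := by
    intro N hN y hy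
    rw [Submodule.baseChange_eq_span] at hy ⊢
    exact Submodule.span_mono (Set.image_mono hN) hy
  rw [Submodule.baseChange_eq_span] at hx
  induction hx using Submodule.span_induction with
  | mem y hy =>
    obtain ⟨v, hv, rfl⟩ := hy
    obtain ⟨v₁, hv₁, v₂, hv₂, rfl⟩ := Submodule.mem_sup.1 hv
    rw [map_add, map_add]
    exact add_mem (mono le_sup_left _ (h₁ B g _ (Submodule.tmul_mem_baseChange_of_mem 1 hv₁)))
      (mono le_sup_right _ (h₂ B g _ (Submodule.tmul_mem_baseChange_of_mem 1 hv₂)))
  | zero => simp
  | add y z _ _ hy hz => rw [map_add]; exact add_mem hy hz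
  | smul c y _ hy => rw [LinearEquiv.map_smul]; exact Submodule.smul_mem _ c hy

/-- The inclusion after base change. -/
abbrev incl (N : Submodule k M) (B : Type u) [CommRing B] [Algebra k B] :
    VecGrp.W k ↥N B →ₗ[B] VecGrp.W k M B :=
  N.subtype.baseChange B

theorem incl_injective (N : Submodule k M) (B : Type u) [CommRing B] [Algebra k B] :
    Function.Injective (incl N B) :=
  Module.Flat.lTensor_preserves_injective_linearMap N.subtype N.injective_subtype

theorem incl_mem (N : Submodule k M) (B : Type u) [CommRing B] [Algebra k B] (x : VecGrp.W k ↥N B) :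
    incl N B x ∈ Submodule.baseChange B N := by
  induction x using TensorProduct.induction_on with
  | zero => simp
  | tmul b v => exact Submodule.tmul_mem_baseChange_of_mem b v.2
  | add y z hy hz => rw [map_add]; exact add_mem hy hz

theorem exists_incl (N : Submodule k M) (B : Type u) [CommRing B] [Algebra k B] (x : VecGrp.W k M B)
    (hx : x ∈ Submodule.baseChange B N) : ∃ y, incl N B y = x := by
  rw [Submodule.baseChange_eq_span] at hx
  induction hx using Submodule.span_induction with
  | mem y hy =>
    obtain ⟨v, hv, rfl⟩ := hy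
    exact ⟨1 ⊗ₜ ⟨v, hv⟩, rfl⟩
  | zero => exact ⟨0, map_zero _⟩
  | add y z _ _ hy hz => obtain ⟨a, rfl⟩ := hy; obtain ⟨b, rfl⟩ := hz; exact ⟨a + b, map_add _ _ _⟩
  | smul c y _ hy => obtain ⟨a, rfl⟩ := hy; exact ⟨c • a, LinearMap.map_smul _ _ _⟩

/-- The module structure of a stable subspace. -/
theorem exists_subGMod {N : Submodule k M} (h : IsStableSub m N) :
    ∃ mN : VecGrp.GMod G ↥N, ∀ (B : Type u) [CommRing B] [Algebra k B] (g : VecGrp.pt k B ⟶ G)
      (x : VecGrp.W k ↥N B), incl N B (mN.ρ B g x) = m.ρ B g (incl N B x) := by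
  choose f hf using fun (B : Type u) (iB : CommRing B) (aB : Algebra k B) (g : VecGrp.pt k B ⟶ G)
    (x : VecGrp.W k ↥N B) => exists_incl N B _ (h B g _ (incl_mem N B x))
  have hmul : ∀ (B : Type u) [CommRing B] [Algebra k B] (g g' : VecGrp.pt k B ⟶ G) (x : VecGrp.W k ↥N B),
      f B _ _ (g * g') x = f B _ _ g (f B _ _ g' x) := fun B _ _ g g' x =>
    incl_injective N B (by rw [hf, hf, hf, map_mul, LinearEquiv.mul_apply])
  have hone : ∀ (B : Type u) [CommRing B] [Algebra k B] (x : VecGrp.W k ↥N B), f B _ _ 1 x = x :=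
    fun B _ _ x => incl_injective N B (by rw [hf, map_one, LinearEquiv.coe_one, id_eq])
  refine ⟨⟨fun B _ _ =>
    { toFun := fun g =>
        { toFun := f B _ _ g
          invFun := f B _ _ g⁻¹
          left_inv := fun x => by rw [← hmul, inv_mul_cancel, hone]
          right_inv := fun x => by rw [← hmul, mul_inv_cancel, hone]
          map_add' := fun x y => incl_injective N B (by simp only [hf, map_add])
          map_smul' := fun c x => incl_injective N B (by simp only [hf, LinearMap.map_smul, LinearEquiv.map_smul,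
            RingHom.id_apply]) }
      map_one' := LinearEquiv.ext fun x => hone B x
      map_mul' := fun g g' => LinearEquiv.ext fun x => hmul B g g' x }, ?_⟩, fun B _ _ g x => hf B _ _ g x⟩
  intro B B' _ _ _ _ φ g x
  refine incl_injective N B' ?_
  have hn : ∀ y : VecGrp.W k ↥N B, incl N B' (VecGrp.Wmap φ y) = VecGrp.Wmap φ (incl N B y) := by
    intro y
    induction y using TensorProduct.induction_on with
    | zero => simp
    | tmul b v => rfl
    | add a c ha hc => simp only [map_add, ha, hc]
  change incl N B' (VecGrp.Wmap φ (f B _ _ g x)) = incl N B' (f B' _ _ _ (VecGrp.Wmap φ x))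
  rw [hn, hf, hf, hn, m.naturality]

/-- A faithful locally finite module makes the group affine. -/
theorem isAffine_of_faithful_locallyFinite [IsAlgClosed k] [LocallyOfFiniteType G.hom] [QuasiCompact G.hom]
    (hlf : ∀ v : M, ∃ N : Submodule k M, v ∈ N ∧ Module.Finite k ↥N ∧ IsStableSub m N)
    (hfaith : ∀ g : VecGrp.pt k k ⟶ G, m.ρ k g = 1 → g = 1) : IsAffine G.left := by
  haveI : IsSeparated G.hom := GrpField.isSeparated_hom G
  haveI : G.left.IsSeparated := ⟨by
    rw [Subsingleton.elim (terminal.from G.left) (G.hom ≫ terminal.from _)]; infer_instance⟩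
  haveI : CompactSpace G.left := QuasiCompact.compactSpace_of_compactSpace G.hom
  haveI : IsLocallyNoetherian G.left := LocallyOfFiniteType.isLocallyNoetherian G.hom
  let S : Type u := {N : Submodule k M // Module.Finite k ↥N ∧ IsStableSub m N}
  haveI : ∀ N : S, Module.Finite k ↥N.1 := fun N => N.2.1
  choose mN hmN using fun N : S => exists_subGMod N.2.2
  choose r ρ hρ using fun N : S => exists_matRep (mN N)
  choose u hu huker using fun N : S => exists_hom_of_matRep (ρ N)
  haveI := hu
  have hkey : ∀ (N : S) (T : Over (Spec (CommRingCat.of k))) (z : T ⟶ G), z ≫ u N = 1 ↔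
      ∀ (B : Type u) [CommRing B] [Algebra k B] (b : VecGrp.pt k B ⟶ T) (x : VecGrp.W k ↥N.1 B),
        m.ρ B (b ≫ z) (incl N.1 B x) = incl N.1 B x := by
    intro N T z
    constructor
    · intro h B _ _ b x
      have h1 := (hρ N B _).1 ((huker N _ _).1
        (by rw [Category.assoc, h, MonObj.comp_one] : (b ≫ z) ≫ u N = 1))
      rw [← hmN N B, h1, LinearEquiv.coe_one, id_eq]
    · intro h
      refine pts_ext fun B _ _ b => ?_
      rw [MonObj.comp_one, ← Category.assoc]
      exact (huker N _ _).2 ((hρ N B _).2 (LinearEquiv.ext fun x => incl_injective N.1 B (by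
        rw [hmN, h B b x, LinearEquiv.coe_one, id_eq])))
  let I : S → G.left.IdealSheafData := fun N => GrpField.LimImage.kerIdeal (u N)
  haveI : WellFoundedGT G.left.IdealSheafData := wellFoundedGT_iff_monotone_chain_condition.2 fun f => by
    obtain ⟨n, hn⟩ := exists_stable (f : ℕ → G.left.IdealSheafData) f.monotone
    exact ⟨n, fun j hj => le_antisymm (f.monotone hj) (le_of_eq (hn j hj))⟩
  haveI : Nonempty S := ⟨⟨⊥, inferInstance, fun B _ _ g x hx => by
    rw [Submodule.baseChange_bot, Submodule.mem_bot] at hx; simp [hx]⟩⟩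
  obtain ⟨_, ⟨N, rfl⟩, hmax⟩ := (wellFounded_gt (α := G.left.IdealSheafData)).has_min (Set.range I) (Set.range_nonempty I)
  let K : Over (Spec (CommRingCat.of k)) := Over.mk ((I N).subschemeι ≫ G.hom)
  let κ : K ⟶ G := Over.homMk (I N).subschemeι
  haveI : IsClosedImmersion κ.left := inferInstanceAs (IsClosedImmersion (I N).subschemeι)
  haveI : Mono κ.left := inferInstance
  haveI : Mono κ := Over.mono_of_mono_left κ
  have hκ : κ ≫ u N = 1 :=
    (GrpField.LimImage.eq_one_iff_le (u N) κ).2 (le_of_eq (Scheme.IdealSheafData.ker_subschemeι _).symm)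
  have hK : ∀ (T : Over (Spec (CommRingCat.of k))) (g : T ⟶ G), (∃ w : T ⟶ K, w ≫ κ = g) ↔ g ≫ u N = 1 := by
    intro T g
    refine ⟨?_, fun h => ?_⟩
    · rintro ⟨w, rfl⟩
      rw [Category.assoc, hκ, MonObj.comp_one]
    · have hle := (GrpField.LimImage.eq_one_iff_le (u N) g).1 h
      let l := IsClosedImmersion.lift (I N).subschemeι g.left
        (by rw [Scheme.IdealSheafData.ker_subschemeι]; exact hle)
      have hl : l ≫ (I N).subschemeι = g.left := IsClosedImmersion.lift_fac _ _ _
      exact ⟨Over.homMk l (by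
        change l ≫ (I N).subschemeι ≫ G.hom = _
        rw [reassoc_of% hl, Over.w]), Over.OverMorphism.ext hl⟩
  have hall : ∀ (N' : S), κ ≫ u N' = 1 := by
    intro N'
    haveI := N.2.1; haveI := N'.2.1
    let N'' : S := ⟨N.1 ⊔ N'.1, inferInstance, isStableSub_sup N.2.2 N'.2.2⟩
    have hsub : ∀ (N₀ : S), N₀.1 ≤ N''.1 → ∀ (T : Over (Spec (CommRingCat.of k))) (z : T ⟶ G),
        z ≫ u N'' = 1 → z ≫ u N₀ = 1 := by
      intro N₀ h0 T z hz
      refine (hkey N₀ T z).2 fun B _ _ b x => ?_
      have h1 := (hkey N'' T z).1 hz B b ((Submodule.inclusion h0).baseChange B x)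
      have h2 : ∀ y, incl N''.1 B ((Submodule.inclusion h0).baseChange B y) = incl N₀.1 B y := by
        intro y
        induction y using TensorProduct.induction_on with
        | zero => simp
        | tmul b v => rfl
        | add a c ha hc => simp only [map_add, ha, hc]
      rwa [h2 x] at h1
    let K' : Over (Spec (CommRingCat.of k)) := Over.mk ((I N'').subschemeι ≫ G.hom)
    let κ' : K' ⟶ G := Over.homMk (I N'').subschemeι
    have hκ' : κ' ≫ u N'' = 1 :=
      (GrpField.LimImage.eq_one_iff_le (u N'') κ').2 (le_of_eq (Scheme.IdealSheafData.ker_subschemeι _).symm)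
    have hle : I N ≤ I N'' := by
      have h2 := (GrpField.LimImage.eq_one_iff_le (u N) κ').1 (hsub N le_sup_left K' κ' hκ')
      rwa [show κ'.left.ker = I N'' from Scheme.IdealSheafData.ker_subschemeι _] at h2
    have heq : I N'' ≤ I N := by
      by_contra hne
      exact hmax _ ⟨N'', rfl⟩ (lt_of_le_not_ge hle hne)
    refine hsub N' le_sup_right K κ ((GrpField.LimImage.eq_one_iff_le (u N'') κ).2 ?_)
    exact heq.trans (le_of_eq (Scheme.IdealSheafData.ker_subschemeι _).symm)
  haveI : LocallyOfFiniteType K.hom := inferInstanceAs (LocallyOfFiniteType ((I N).subschemeι ≫ G.hom))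
  haveI : JacobsonSpace K.left := LocallyOfFiniteType.jacobsonSpace K.hom
  let e : G.left := (1 : VecGrp.pt k k ⟶ G).left.base (IsLocalRing.closedPoint k)
  have hcl : closedPoints K.left ⊆ κ.left.base ⁻¹' {e} := by
    intro y hy
    let z : VecGrp.pt k k ⟶ K := Over.homMk (pointOfClosedPoint K.hom y hy) (by
      refine Eq.trans (pointOfClosedPoint_comp K.hom y hy) ?_
      exact (Spec.map_id _).symm)
    have hz : z ≫ κ = 1 := hfaith _ (LinearEquiv.ext fun x => by
      rw [LinearEquiv.coe_one, id_eq]
      induction x using TensorProduct.induction_on with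
      | zero => simp
      | tmul b v =>
        obtain ⟨N', hv, hf, hs⟩ := hlf v
        exact (hkey ⟨N', hf, hs⟩ K κ).1 (hall ⟨N', hf, hs⟩) k z (b ⊗ₜ ⟨v, hv⟩)
      | add a c ha hc => rw [map_add, ha, hc])
    have := congrArg (fun q : VecGrp.pt k k ⟶ G => q.left.base (IsLocalRing.closedPoint k)) hz
    change κ.left.base y = e
    refine Eq.trans ?_ this
    change _ = κ.left.base ((pointOfClosedPoint K.hom y hy).base (IsLocalRing.closedPoint k))
    exact congrArg κ.left.base (pointOfClosedPoint_apply K.hom y hy _).symm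
  have hinj : Function.Injective κ.left.base := κ.left.isClosedEmbedding.injective
  haveI hsub : Subsingleton K.left := by
    have hfin : (closedPoints K.left).Subsingleton := (Set.subsingleton_singleton.preimage hinj).anti hcl
    have hclosed : IsClosed (closedPoints K.left) := by
      rcases hfin.eq_empty_or_singleton with h | ⟨y, hy⟩
      · rw [h]; exact isClosed_empty
      · rw [hy]
        exact (Set.ext_iff.1 hy y).2 rfl
    have := closure_closedPoints (X := K.left)
    rw [hclosed.closure_eq] at this
    exact ⟨fun p q => hfin (this ▸ Set.mem_univ p) (this ▸ Set.mem_univ q)⟩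
  exact isAffine_of_affine_kernel G (r N) (u N) K κ hK

end Groth.Agent.AdjRep
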