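import Groth.Agent.AdjRep.ActFix
import Groth.Agent.AdjRep.CentreQuot

/-!
# The quotient of a group by the kernel of a linear representation is affine
-/

set_option autoImplicit false

universe u

open CategoryTheory CategoryTheory.Limits MonoidalCategory CartesianMonoidalCategory MonObj GrpObj AlgebraicGeometry

namespace Groth.Agent.AdjRep

variable {k : Type u} [Field k]

theorem quasiCompact_left_of_over {G Q : Over (Spec (CommRingCat.of k))} [QuasiCompact G.hom]
    [IsSeparated Q.hom] (q : G ⟶ Q) : QuasiCompact q.left := by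
  have : QuasiCompact (q.left ≫ Q.hom) := by rw [Over.w q]; infer_instance
  exact QuasiCompact.of_comp q.left Q.hom

/-- A quotient by the kernel of a homomorphism to a general linear group is affine. -/
theorem isAffine_of_rep_kernel (G : Over (Spec (CommRingCat.of k))) [GrpObj G]
    [LocallyOfFiniteType G.hom] [QuasiCompact G.hom] (m : ℕ) (u : G ⟶ GLSpec k m) [IsMonHom u]
    (N : Over (Spec (CommRingCat.of k))) [GrpObj N] (n : N ⟶ G) [IsMonHom n] [Mono n]
    (hN : ∀ (T : Over (Spec (CommRingCat.of k))) (g : T ⟶ G), (∃ w : T ⟶ N, w ≫ n = g) ↔ g ≫ u = 1)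
    (Q : Over (Spec (CommRingCat.of k))) [GrpObj Q] [LocallyOfFiniteType Q.hom] [QuasiCompact Q.hom]
    (q : G ⟶ Q) [IsMonHom q] [Surjective q.left] [Flat q.left] (hq : AlgGrp.IsKernel n q) :
    IsAffine Q.left := by
  obtain ⟨C, hC, p, c, hp, hc, hpc, hsurj, hflat, hcl, haff, -⟩ :=
    GrpField.AffImage.exists_factor_affine (G' := GLSpec k m) u
  haveI : Mono c.left := inferInstance
  haveI : Mono c := Over.mono_of_mono_left c
  have hmem : ∀ (T : Over (Spec (CommRingCat.of k))) (g : T ⟶ G), (∃ w : T ⟶ N, w ≫ n = g) ↔ g ≫ p = 1 := by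
    intro T g
    rw [hN, ← hpc, ← Category.assoc]
    constructor
    · intro h; rw [← cancel_mono c, h, MonObj.one_comp]
    · intro h; rw [h, MonObj.one_comp]
  haveI : IsAffineHom c.left := inferInstance
  haveI : LocallyOfFiniteType C.hom := by rw [← Over.w c]; infer_instance
  have hk : AlgGrp.IsKernel n p := by
    refine ⟨⟨(hmem N n).1 ⟨𝟙 _, Category.id_comp _⟩⟩, ⟨PullbackCone.isLimitAux' _ fun s => ?_⟩⟩
    have h1 : s.fst ≫ p = 1 := by
      rw [s.condition, toUnit_unique s.snd (toUnit _)]
      rfl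
    exact ⟨((hmem _ _).2 h1).choose, ((hmem _ _).2 h1).choose_spec, toUnit_unique _ _,
      fun {w} hw _ => (cancel_mono n).1 (hw.trans ((hmem _ _).2 h1).choose_spec.symm)⟩
  haveI : IsSeparated Q.hom := GrpField.isSeparated_hom Q
  haveI : IsAffineHom C.hom := isAffineHom_of_isAffine C.hom
  haveI := quasiCompact_left_of_over q
  haveI := quasiCompact_left_of_over p
  obtain ⟨E⟩ := exists_iso_of_same_kernel n q p hq hk
  haveI : IsIso E.hom.left := inferInstanceAs (IsIso ((Over.forget _).map E.hom))
  exact IsAffine.of_isIso E.hom.left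

end Groth.Agent.AdjRep
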